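import Cfsg.Agent.Ly.Cover
import Cfsg.Agent.Ly.McL.ClassXData

/-!
# The class of the element `x = a b a⁻¹ b⁻¹` of order 3 of `G₂(5)`

`x` has at least `15500` conjugates in `Ĥ = ⟨a,b,c,d⟩`; so its centraliser in `Ĥ` has order at most `378000`.
-/

set_option autoImplicit false

namespace Cfsg.Agent.Ly.McL.ClassX

open Cfsg.Agent.Lib.PackMat Cfsg.Agent.Ly.Mat7 Cfsg.Agent.Ly.CoverCore Cfsg.Agent.Ly.Cover
open Cfsg.Agent.Ly.McL.ClassXData

/-- The element `x` of order 3. -/
def xx : GL75 := ev gen [0, 1, 4, 5]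

/-- The element `s` of order 31. -/
def ss : GL75 := ev gen sW

/-! ### Powers of `s` -/

/-- Check of the table of powers. -/
noncomputable def chkS : Bool :=
  bif Nat.beq (tab TS 0) oneN then bif Nat.beq (tab TS 31) oneN then bif Nat.beq (tab TS 1) (evalW sW) then
    allBelow (fun k => Nat.beq (tab TS (Nat.succ k)) (mulF (tab TS k) (tab TS 1))) 31
  else false else false else false

theorem rep_pow (h : chkS = true) : (∀ k ≤ 31, Rep (tab TS k) (ss ^ k)) ∧ ss ^ 31 = 1 := by
  unfold chkS at h
  simp only [Bool.cond_false_right, Bool.and_eq_true] at h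
  obtain ⟨h0, h31, h1, hk⟩ := h
  have hk' := allBelow_spec hk
  have r1 : Rep (tab TS 1) ss := by
    rw [Nat.eq_of_beq_eq_true h1]
    exact rep_evalW sW
  have key : ∀ k ≤ 31, Rep (tab TS k) (ss ^ k) := by
    intro k
    induction k with
    | zero =>
      intro _
      rw [Nat.eq_of_beq_eq_true h0, pow_zero]
      exact rep_one
    | succ k ih =>
      intro hk1
      have e : tab TS (k + 1) = mulF (tab TS k) (tab TS 1) := Nat.eq_of_beq_eq_true (hk' k (by omega))
      rw [e, pow_succ]
      exact (ih (by omega)).mul r1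
  refine ⟨key, ?_⟩
  have h2 := key 31 le_rfl
  rw [Nat.eq_of_beq_eq_true h31] at h2
  exact h2.inj rep_one

/-- Code of `s^a y s^(31-a)`. -/
noncomputable def cS (a X : ℕ) : ℕ := mulF (mulF (tab TS a) X) (tab TS (Nat.sub 31 a))

theorem cS_rep (h : chkS = true) {a X : ℕ} (ha : a < 32) {y : GL75} (hX : Rep X y) :
    Rep (cS a X) (ss ^ a * y * (ss ^ a)⁻¹) := by
  obtain ⟨h1, h2⟩ := rep_pow h
  have e : (ss ^ a)⁻¹ = ss ^ (31 - a) := by
    apply inv_eq_of_mul_eq_one_right
    rw [← pow_add, Nat.add_sub_cancel' (by omega), h2]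
  rw [e]
  exact ((h1 a (by omega)).mul hX).mul (h1 (31 - a) (by omega))

/-! ### The class -/

/-- `X` is the code of a conjugate of `x`. -/
def InC (X : ℕ) : Prop := ∃ g ∈ Hhat, Rep X (g * xx * g⁻¹)

theorem ss_mem : ss ∈ Hhat := ev_mem_Hhat sW

theorem InC.cS (h : chkS = true) {a X : ℕ} (ha : a < 32) (hX : InC X) : InC (cS a X) := by
  obtain ⟨g, hg, hr⟩ := hX
  refine ⟨ss ^ a * g, Hhat.mul_mem (Hhat.pow_mem ss_mem a) hg, ?_⟩
  have := cS_rep h ha hr
  rwa [show ss ^ a * g * xx * (ss ^ a * g)⁻¹ = ss ^ a * (g * xx * g⁻¹) * (ss ^ a)⁻¹ by group]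

/-- Code of `l y l⁻¹` for a letter `l < 4`. -/
noncomputable def cL (l X : ℕ) : ℕ := mulF (mulF (genN l) X) (genN (Nat.add l 4))

theorem rep_genN (l : ℕ) : Rep (genN l) (letter gen l) := ⟨genN_ok l, (toM_genN l).symm⟩

theorem InC.cL {l X : ℕ} (hl : l < 4) (hX : InC X) : InC (cL l X) := by
  obtain ⟨g, hg, hr⟩ := hX
  have hinv : letter gen (l + 4) = (letter gen l)⁻¹ := by
    match l, hl with
    | 0, _ | 1, _ | 2, _ | 3, _ => rfl
  refine ⟨letter gen l * g, Hhat.mul_mem ?_ hg, ?_⟩
  · exact letter_mem gen Hhat (fun i => Subgroup.subset_closure ⟨i, rfl⟩) l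
  · have h1 := ((rep_genN l).mul hr).mul (rep_genN (l + 4))
    rw [hinv] at h1
    rwa [show letter gen l * g * xx * (letter gen l * g)⁻¹ = letter gen l * (g * xx * g⁻¹) * (letter gen l)⁻¹ by group]

/-- Entry of a list of tables. -/
noncomputable def pick (L : List ℕ) : ℕ → ℕ :=
  List.rec (motive := fun _ => ℕ → ℕ) (fun _ => 0)
    (fun t _ ih k => Nat.rec (motive := fun _ => ℕ) t (fun m _ => ih m) k) L

/-- The representatives. -/
noncomputable def XT (i : ℕ) : ℕ := tab (pick TXL (Nat.shiftRight i 6)) (Nat.land i 63)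

theorem land_lt_32 (n : ℕ) : Nat.land n 31 < 32 := by
  have : Nat.land n 31 ≤ 31 := Nat.and_le_right
  omega

theorem land_lt_4 (n : ℕ) : Nat.land n 3 < 4 := by
  have : Nat.land n 3 ≤ 3 := Nat.and_le_right
  omega

/-- Field `n` of 20 bits. -/
noncomputable def fd (S n : ℕ) : ℕ := Nat.land (Nat.shiftRight S (Nat.mul 20 n)) 1048575

/-- Check of the representatives. -/
noncomputable def chkX : Bool :=
  bif Nat.beq (XT 0) (evalW [0, 1, 4, 5]) then
    allBelow (fun n => force (fd ST n) fun c => force (Nat.land c 1023) fun k =>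
      bif Nat.blt k (Nat.succ n) then
        force (XT k) fun X => force (cS (Nat.land (Nat.shiftRight c 10) 31) X) fun Y =>
          Nat.beq (XT (Nat.succ n)) (cL (Nat.land (Nat.shiftRight c 15) 3) Y)
      else false) 499
  else false

theorem inC_XT (hS : chkS = true) (h : chkX = true) : ∀ i < 500, InC (XT i) := by
  unfold chkX at h
  rw [Bool.cond_false_right, Bool.and_eq_true] at h
  obtain ⟨h0, h1⟩ := h
  have h2 := allBelow_spec h1
  intro i
  induction i using Nat.strong_induction_on with
  | _ i ih =>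
    intro hi
    rcases i with _ | n
    · refine ⟨1, Hhat.one_mem, ?_⟩
      rw [Nat.eq_of_beq_eq_true h0, one_mul, inv_one, mul_one]
      exact rep_evalW _
    · have h3 := h2 n (by omega)
      simp only [force_eq, Bool.cond_false_right, Bool.and_eq_true] at h3
      obtain ⟨h4, h5⟩ := h3
      have h6 := blt_lt h4
      rw [Nat.eq_of_beq_eq_true h5]
      exact (InC.cS hS (land_lt_32 _) (ih _ h6 (by omega))).cL (land_lt_4 _)

/-- `X` if `i < n`, else `0`. -/
noncomputable def pickIf (n i X : ℕ) : ℕ := bif Nat.blt i n then X else 0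

theorem pickIf_pos {n i X : ℕ} (h : 0 < pickIf n i X) : i < n ∧ pickIf n i X = X := by
  unfold pickIf at h ⊢
  cases hb : Nat.blt i n with
  | false => rw [hb, cond_false] at h; exact absurd h (lt_irrefl _)
  | true => exact ⟨blt_lt hb, cond_true _ _⟩

section val

variable (XT : ℕ → ℕ) (cS : ℕ → ℕ → ℕ) (N : ℕ)

/-- The value of the entry `j` of the block `B`. -/
noncomputable def valG (B j : ℕ) : ℕ :=
  force (fd B j) fun c => force (Nat.land c 1023) fun i =>
    pickIf N i (force (XT i) fun X => cS (Nat.land (Nat.shiftRight c 10) 31) X)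

theorem valG_eq (B j : ℕ) : valG XT cS N B j = pickIf N (Nat.land (fd B j) 1023)
    (cS (Nat.land (Nat.shiftRight (fd B j) 10) 31) (XT (Nat.land (fd B j) 1023))) := by
  unfold valG
  rw [force_eq, force_eq, force_eq]

end val

/-- The value of the entry `j` of the block `B`. -/
noncomputable def val (B j : ℕ) : ℕ := valG XT cS 500 B j

theorem inC_val (hS : chkS = true) (hX : chkX = true) {B j : ℕ} (h : 0 < val B j) : InC (val B j) := by
  rw [val, valG_eq] at h ⊢
  obtain ⟨h1, h2⟩ := pickIf_pos h
  rw [h2]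
  exact InC.cS hS (land_lt_32 _) (inC_XT hS hX _ h1)

/-- Block `b` (62 entries). -/
noncomputable def blk (b : ℕ) : ℕ := Nat.land (Nat.shiftRight SL (Nat.mul 1240 b)) (Nat.sub (Nat.pow 2 1240) 1)

section chain

variable (V : ℕ → ℕ → ℕ) (blkf : ℕ → ℕ)

/-- Increasing chain in a block. -/
noncomputable def chain (B : ℕ) (cont : ℕ → Bool) (k : ℕ) : ℕ → ℕ → Bool :=
  Nat.rec (motive := fun _ => ℕ → ℕ → Bool) (fun _ prev => cont prev)
    (fun _ ih j prev => force (Nat.succ j) fun j' => force (V B j') fun Y =>
      bif Nat.blt prev Y then ih j' Y else false) k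

variable {V}

theorem chain_succ (B : ℕ) (cont : ℕ → Bool) (k j prev : ℕ) : chain V B cont (k + 1) j prev =
    (bif Nat.blt prev (V B (j + 1)) then chain V B cont k (j + 1) (V B (j + 1)) else false) := rfl

theorem chain_spec {B : ℕ} {cont : ℕ → Bool} {k : ℕ} : ∀ {j : ℕ}, chain V B cont k j (V B j) = true →
    (∀ i < k, V B (j + i) < V B (j + i + 1)) ∧ cont (V B (j + k)) = true := by
  induction k with
  | zero => intro j h; exact ⟨fun i hi => absurd hi (Nat.not_lt_zero i), h⟩
  | succ k ih =>
    intro j h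
    rw [chain_succ, Bool.cond_false_right, Bool.and_eq_true] at h
    obtain ⟨h1, h2⟩ := h
    obtain ⟨h3, h4⟩ := ih h2
    refine ⟨?_, ?_⟩
    · intro i hi
      rcases i with _ | i
      · exact blt_lt h1
      · have := h3 i (by omega)
        rwa [Nat.add_assoc j 1 i, Nat.add_comm 1 i] at this
    · rwa [Nat.add_assoc j 1 k, Nat.add_comm 1 k] at h4

variable (V)

/-- Check of block `b`. -/
noncomputable def chkB (k N b : ℕ) : Bool :=
  force (blkf b) fun B => force (V B 0) fun Y0 =>
    chain V B (fun last => bif Nat.blt b N then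
      force (blkf (Nat.succ b)) fun B' => Nat.blt last (V B' 0) else true) k 0 Y0

theorem chkB_eq (k N b : ℕ) : chkB V blkf k N b = chain V (blkf b) (fun last => bif Nat.blt b N then
      Nat.blt last (V (blkf (b + 1)) 0) else true) k 0 (V (blkf b) 0) := by
  unfold chkB
  rw [force_eq, force_eq]
  simp only [force_eq]

/-- The sorted list. -/
noncomputable def fl (n : ℕ) : ℕ := V (blkf (n / 62)) (n % 62)

theorem fl_lt (h : ∀ b < 250, chkB V blkf 61 249 b = true) : ∀ n < 15499, fl V blkf n < fl V blkf (n + 1) := by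
  intro n hn
  have h1 := h (n / 62) (by omega)
  rw [chkB_eq] at h1
  obtain ⟨h2, h3⟩ := chain_spec h1
  by_cases hm : n % 62 < 61
  · have h4 := h2 (n % 62) hm
    have e1 : (n + 1) / 62 = n / 62 := by omega
    have e2 : (n + 1) % 62 = n % 62 + 1 := by omega
    rw [fl, fl, e1, e2]
    rwa [Nat.zero_add] at h4
  · have e0 : n % 62 = 61 := by omega
    have e1 : (n + 1) / 62 = n / 62 + 1 := by omega
    have e2 : (n + 1) % 62 = 0 := by omega
    have h5 : Nat.blt (n / 62) 249 = true := by
      unfold Nat.blt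
      exact Nat.ble_eq.mpr (by omega)
    rw [h5, cond_true, Nat.zero_add] at h3
    rw [fl, fl, e0, e1, e2]
    exact blt_lt h3

end chain

/-- The sorted list of conjugates. -/
noncomputable def f (n : ℕ) : ℕ := fl val blk n

theorem chkS_true : chkS = true := by decide +kernel
theorem chkX_true : chkX = true := by decide +kernel
theorem pos_true : Nat.blt 0 (val (blk 0) 0) = true := by decide +kernel

theorem blocks0 : allBelow (fun b => chkB val blk 61 249 b) 50 = true := by decide +kernel
theorem blocks1 : allBelow (fun b => force (Nat.add 50 b) fun c => chkB val blk 61 249 c) 50 = true := by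
  decide +kernel
theorem blocks2 : allBelow (fun b => force (Nat.add 100 b) fun c => chkB val blk 61 249 c) 50 = true := by
  decide +kernel
theorem blocks3 : allBelow (fun b => force (Nat.add 150 b) fun c => chkB val blk 61 249 c) 50 = true := by
  decide +kernel
theorem blocks4 : allBelow (fun b => force (Nat.add 200 b) fun c => chkB val blk 61 249 c) 50 = true := by
  decide +kernel

theorem blocks : ∀ b < 250, chkB val blk 61 249 b = true := by
  intro b hb
  have key : ∀ n, allBelow (fun b => force (Nat.add n b) fun c => chkB val blk 61 249 c) 50 = true →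
      n ≤ b → b < n + 50 → chkB val blk 61 249 b = true := by
    intro n h h1 h2
    have h3 := allBelow_spec h (b - n) (by omega)
    rw [force_eq] at h3
    have e : Nat.add n (b - n) = b := Nat.add_sub_cancel' h1
    rwa [e] at h3
  by_cases h0 : b < 50
  · exact allBelow_spec blocks0 b h0
  by_cases h1 : b < 100
  · exact key 50 blocks1 (by omega) (by omega)
  by_cases h2 : b < 150
  · exact key 100 blocks2 (by omega) (by omega)
  by_cases h3 : b < 200
  · exact key 150 blocks3 (by omega) (by omega)
  · exact key 200 blocks4 (by omega) (by omega)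

/-! ### The bound -/

theorem f_pos : ∀ n < 15500, 0 < fl val blk n := by
  intro n
  induction n with
  | zero => intro _; exact blt_lt pos_true
  | succ n ih => intro hn; exact (ih (by omega)).trans (fl_lt val blk blocks n (by omega))

theorem f_inC : ∀ n < 15500, InC (fl val blk n) := fun n hn => inC_val chkS_true chkX_true (f_pos n hn)

/-- **The class of `x` has at least `15500` elements.** -/
theorem card_centralizer_x_le (h : Nat.card Cover.Hhat = 5859000000) :
    Nat.card (Subgroup.centralizer ({ev gen [0, 1, 4, 5]} : Set GL75) ⊓ Cover.Hhat : Subgroup GL75) ≤ 378000 := by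
  classical
  change Nat.card (Subgroup.centralizer ({xx} : Set GL75) ⊓ Hhat : Subgroup GL75) ≤ 378000
  have hfin : Finite Hhat := Nat.finite_of_card_ne_zero (by rw [h]; norm_num)
  have hmono := strictMono_of (f := fl val blk) (N := 15499) (fl_lt val blk blocks)
  choose g hg hrep using fun n : Fin 15500 => f_inC n n.2
  set C : Subgroup Hhat := (Subgroup.centralizer ({xx} : Set GL75)).subgroupOf Hhat with hC
  have hinj : Function.Injective (fun n : Fin 15500 => ((⟨g n, hg n⟩ : Hhat) : Hhat ⧸ C)) := by
    intro m n hmn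
    have h1 : (⟨g m, hg m⟩ : Hhat)⁻¹ * ⟨g n, hg n⟩ ∈ C := QuotientGroup.eq.mp hmn
    have h2 : (g m)⁻¹ * g n ∈ Subgroup.centralizer ({xx} : Set GL75) := by
      rw [hC, Subgroup.mem_subgroupOf] at h1
      exact h1
    rw [Subgroup.mem_centralizer_singleton_iff] at h2
    have h3 : g m * xx * (g m)⁻¹ = g n * xx * (g n)⁻¹ := by
      have h4 : g n = g m * ((g m)⁻¹ * g n) := by group
      rw [h4, mul_assoc (g m) ((g m)⁻¹ * g n) xx, h2]
      group
    have h5 : fl val blk m = fl val blk n := by
      have h6 := hrep n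
      rw [← h3] at h6
      exact (hrep m).code h6
    rcases Nat.lt_trichotomy m n with h6 | h6 | h6
    · have := hmono m n h6 (by omega); omega
    · exact Fin.ext h6
    · have := hmono n m h6 (by omega); omega
  have hidx : 15500 ≤ C.index := by
    have := Nat.card_le_card_of_injective _ hinj
    rw [Nat.card_eq_fintype_card, Fintype.card_fin] at this
    exact this
  have hmul := C.card_mul_index
  rw [h] at hmul
  have hcard : Nat.card C = Nat.card (Subgroup.centralizer ({xx} : Set GL75) ⊓ Hhat : Subgroup GL75) := by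
    rw [hC, ← Subgroup.inf_subgroupOf_right]
    exact Nat.card_congr (Subgroup.subgroupOfEquivOfLe inf_le_right).toEquiv
  rw [← hcard]
  by_contra hlt
  have hlt := Nat.lt_of_not_le hlt
  have : 378001 * 15500 ≤ Nat.card C * C.index := Nat.mul_le_mul hlt hidx
  rw [hmul] at this
  norm_num at this

end Cfsg.Agent.Ly.McL.ClassX
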