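import Cfsg.Agent.Ly.McL.Sub

/-!
# The centraliser `SU₃(5)` of `x` in `G₂(5)`: its order and its normal subgroups
-/

set_option autoImplicit false

namespace Cfsg.Agent.Ly.McL.Cent

open Cfsg.Agent.Lib.PackMat Cfsg.Agent.Ly.Mat7 Cfsg.Agent.Ly.CoverCore Cfsg.Agent.Ly.Cover Cfsg.Agent.Ly.CoverData
open Cfsg.Agent.Ly.McL.Lists Cfsg.Agent.Ly.McL.Data Cfsg.Agent.Ly.Walk Cfsg.Agent.Ly.McL.Checks
open Cfsg.Agent.Ly.McL.Sub

/-- `x` -/
noncomputable def x7 : GL75 := ev gen xw

/-- `C_H(x)` -/
noncomputable def A0 : Subgroup GL75 := Subgroup.centralizer ({x7} : Set GL75) ⊓ Hhat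

theorem mem_A0_of {w : List ℕ} (h : eqW (w ++ xw) (xw ++ w) = true) : ev gen w ∈ A0 := by
  refine Subgroup.mem_inf.mpr ⟨?_, ev_mem_Hhat w⟩
  rw [Subgroup.mem_centralizer_singleton_iff]
  have h1 := word_eq h
  rwa [ev_append, ev_append] at h1

theorem mem_A0_of_comB {ws : List (List ℕ)} (h : comB ws = true) {w : List ℕ} (hw : w ∈ ws) : ev gen w ∈ A0 :=
  mem_A0_of (allL_spec h w hw)

theorem x7_mem : x7 ∈ A0 := by
  refine Subgroup.mem_inf.mpr ⟨?_, ev_mem_Hhat xw⟩
  rw [Subgroup.mem_centralizer_singleton_iff]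

/-! ### Specification of the checks -/

theorem is7_spec {Y : ℕ} {y : GL75} (hY : Rep Y y) (h : is7 Y = true) : y ^ 3 ≠ 1 ∧ y ^ 21 = 1 := by
  rw [is7] at h
  simp only [force_eq] at h
  have r2 : Rep (mulN Y Y) (y * y) := by have := hY.mul hY; rwa [mulF_eq] at this
  have r3 : Rep (mulN (mulN Y Y) Y) (y * y * y) := by have := r2.mul hY; rwa [mulF_eq] at this
  set Y3 := mulN (mulN Y Y) Y with hY3
  have r6 : Rep (mulN Y3 Y3) ((y * y * y) * (y * y * y)) := by have := r3.mul r3; rwa [mulF_eq] at this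
  have r9 := r6.mul r3
  rw [mulF_eq] at r9
  have r18 := r9.mul r9
  rw [mulF_eq] at r18
  have r21 := r18.mul r3
  rw [mulF_eq] at r21
  cases hb : Nat.beq Y3 oneN with
  | true => rw [hb] at h; simp at h
  | false =>
    rw [hb, cond_false] at h
    constructor
    · intro h1
      have h2 : y * y * y = 1 := by rw [← h1, pow_succ, pow_two]
      rw [h2] at r3
      have h3 := r3.code rep_one
      rw [h3, Nat.beq_refl] at hb
      exact absurd hb (by simp)
    · have h1 := Nat.eq_of_beq_eq_true h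
      rw [h1] at r21
      have h2 := r21.inj rep_one
      rw [← h2]
      simp only [pow_succ, pow_zero, one_mul, mul_assoc]

/-- the witness property -/
def Wit (m : GL75) : Prop :=
  ∃ g ∈ A0, ∃ h ∈ A0, (g * m * g⁻¹ * (h * m * h⁻¹) * m) ^ 3 ≠ 1 ∧ (g * m * g⁻¹ * (h * m * h⁻¹) * m) ^ 21 = 1

theorem witB_spec {X : ℕ} {m : GL75} (hX : Rep X m) (gs : List (ℕ × ℕ)) :
    (∀ p ∈ gs, ∃ g ∈ A0, Rep p.1 g ∧ Rep p.2 g⁻¹) → witB X gs = true → Wit m := by
  induction gs using List.twoStepInduction with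
  | nil => intro _ h; simp [witB] at h
  | singleton a => intro _ h; simp [witB] at h
  | cons_cons p q l ih _ =>
    intro hgs h
    rw [witB, force_eq, force_eq] at h
    obtain ⟨g, hg, hg1, hg2⟩ := hgs p (by simp)
    obtain ⟨k, hk, hk1, hk2⟩ := hgs q (by simp)
    have r1 := step_rep (p := p) (q := (g, g⁻¹)) ⟨hg1, hg2⟩ hX
    have r2 := step_rep (p := q) (q := (k, k⁻¹)) ⟨hk1, hk2⟩ hX
    have r3 := (r1.mul r2).mul hX
    rw [mulF_eq (mulF _ _)] at r3
    cases hb : is7 (mulN (mulF (step p X) (step q X)) X) with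
    | true => exact ⟨g, hg, k, hk, is7_spec r3 hb⟩
    | false =>
      rw [hb, cond_false] at h
      exact ih (fun p hp => hgs p (by simp [hp])) h

theorem chkA_spec {ws : List (List ℕ)} {tree : List (ℕ × ℕ)} (h : chkA ws tree = true) :
    Nat.card (subOf gen ws) = tree.length + 1 ∧
      ∀ m ∈ subOf gen ws, (m = 1 ∨ m = x7 ∨ m = x7⁻¹) ∨ Wit m := by
  rw [chkA, mkC_eq, force_eq, force_eq] at h
  obtain ⟨h1, h2⟩ := group_list h
  refine ⟨h1, fun m hm => ?_⟩
  obtain ⟨X, hX, hf⟩ := h2 m hm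
  cases hb : memB X [oneN, evalW xw, evalW (invW xw)] with
  | true =>
    left
    rcases memB_rep' hX rep_one hb with h | h
    · exact Or.inl h
    · rcases memB_rep hX h with h | h
      · exact Or.inr (Or.inl h)
      · rcases memB_rep hX h with h | h
        · right; right; rw [h, ev_invW]; rfl
        · exact (memB_nil h).elim
  | false =>
    rw [hb, cond_false] at hf
    right
    refine witB_spec hX _ ?_ hf
    intro p hp
    obtain ⟨w, hw, rfl⟩ := List.mem_map.mp hp
    exact ⟨ev gen w, mem_A0_of_comB com_wit hw, rep_evalW w, rep_inv w⟩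

theorem x7_cube : x7 ^ 3 = 1 := x_cube

theorem zmem {M : Subgroup GL75} (hx : x7 ∈ M) {y : GL75} (h : y = 1 ∨ y = x7 ∨ y = x7⁻¹) : y ∈ M := by
  rcases h with rfl | rfl | rfl
  · exact M.one_mem
  · exact hx
  · exact M.inv_mem hx

theorem zpow21 {y : GL75} (h : y ^ 7 = 1 ∨ y ^ 7 = x7 ∨ y ^ 7 = x7⁻¹) : y ^ 21 = 1 := by
  have e : y ^ 21 = (y ^ 7) ^ 3 := by rw [← pow_mul]
  rw [e]
  rcases h with h | h | h
  · rw [h, one_pow]
  · rw [h, x7_cube]
  · rw [h, inv_pow, x7_cube, inv_one]

theorem sevB_spec {w : List ℕ} (h : sevB w = true) :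
    (ev gen w) ^ 7 = 1 ∨ (ev gen w) ^ 7 = x7 ∨ (ev gen w) ^ 7 = x7⁻¹ := by
  have hX := rep_evalW (w ++ w ++ w ++ w ++ w ++ w ++ w)
  have e : ev gen (w ++ w ++ w ++ w ++ w ++ w ++ w) = (ev gen w) ^ 7 := by
    simp only [ev_append, pow_succ, pow_zero, one_mul]
  rw [e] at hX
  rw [sevB] at h
  rcases memB_rep' hX rep_one h with h | h
  · exact Or.inl h
  · rcases memB_rep hX h with h | h
    · exact Or.inr (Or.inl h)
    · rcases memB_rep hX h with h | h
      · right; right; rw [h, ev_invW]; rfl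
      · exact (memB_nil h).elim

/-- 7-elements generate -/
theorem mem_of_sev {M : Subgroup GL75} (hx : x7 ∈ M) (h7 : ∀ y ∈ A0, orderOf y = 7 → y ∈ M) {y : GL75}
    (hy : y ∈ A0) (h : y ^ 7 = 1 ∨ y ^ 7 = x7 ∨ y ^ 7 = x7⁻¹) : y ∈ M := by
  have hp : Fact (Nat.Prime 7) := ⟨by norm_num⟩
  have h3 : y ^ 3 ∈ M := by
    have h1 : (y ^ 3) ^ 7 = 1 := by rw [← pow_mul]; exact zpow21 h
    rcases (Nat.dvd_prime hp.out).mp (orderOf_dvd_of_pow_eq_one h1) with h2 | h2
    · rw [orderOf_eq_one_iff.mp h2]; exact M.one_mem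
    · exact h7 _ (A0.pow_mem hy 3) h2
  have h1 : y = y ^ 7 * ((y ^ 3) ^ 2)⁻¹ := by
    rw [← pow_mul, eq_mul_inv_iff_mul_eq, ← pow_succ']
  rw [h1]
  exact M.mul_mem (zmem hx h) (M.inv_mem (M.pow_mem h3 2))

theorem facB_spec {M : Subgroup GL75} (hx : x7 ∈ M) (h7 : ∀ y ∈ A0, orderOf y = 7 → y ∈ M)
    (ws : List (List ℕ)) : ∀ l : List (List ℕ × List ℕ), facB ws l = true →
      comB (l.map Prod.fst) = true → comB ws = true → ∀ w ∈ ws, ev gen w ∈ M := by
  induction ws with
  | nil => intro l _ _ _ w hw; simp at hw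
  | cons v ws ih =>
    intro l h hc hcw
    cases l with
    | nil => simp [facB] at h
    | cons p l =>
      obtain ⟨s, t⟩ := p
      rw [facB] at h
      cases h1 : eqW v (s ++ t) with
      | false => rw [h1] at h; simp at h
      | true =>
        rw [h1, cond_true] at h
        cases h2 : sevB s with
        | false => rw [h2] at h; simp at h
        | true =>
          rw [h2, cond_true] at h
          cases h3 : sevB t with
          | false => rw [h3] at h; simp at h
          | true =>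
            rw [h3, cond_true] at h
            have hs : ev gen s ∈ A0 := mem_A0_of_comB hc (by simp)
            have hv : ev gen v ∈ A0 := mem_A0_of_comB hcw (by simp)
            have hvst : ev gen v = ev gen s * ev gen t := by rw [word_eq h1, ev_append]
            have ht : ev gen t ∈ A0 := by
              have : ev gen t = (ev gen s)⁻¹ * ev gen v := by rw [hvst, inv_mul_cancel_left]
              rw [this]
              exact A0.mul_mem (A0.inv_mem hs) hv
            intro w hw
            rcases List.mem_cons.mp hw with rfl | hw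
            · rw [hvst]
              exact M.mul_mem (mem_of_sev hx h7 hs (sevB_spec h2)) (mem_of_sev hx h7 ht (sevB_spec h3))
            · rw [List.map_cons, comB, allL] at hc
              have hc' : comB (l.map Prod.fst) = true := by
                cases hb : eqW (s ++ xw) (xw ++ s) with
                | false => simp only [hb] at hc; simp at hc
                | true => simp only [hb, cond_true] at hc; exact hc
              rw [comB, allL] at hcw
              have hcw' : comB ws = true := by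
                cases hb : eqW (v ++ xw) (xw ++ v) with
                | false => rw [hb] at hcw; simp at hcw
                | true => rw [hb, cond_true] at hcw; exact hcw
              exact ih l h hc' hcw' w hw

/-! ### The Sylow subgroups -/

theorem card_P2 : Nat.card (subOf gen p2) = 16 := (chkA_spec chk_p2).1
theorem card_P3 : Nat.card (subOf gen p3) = 27 := (chkA_spec chk_p3).1
theorem card_P5 : Nat.card (subOf gen p5) = 125 := (chkA_spec chk_p5).1

theorem subOf_le {M : Subgroup GL75} {ws : List (List ℕ)} (h : ∀ w ∈ ws, ev gen w ∈ M) : subOf gen ws ≤ M := by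
  rw [subOf, Subgroup.closure_le]
  rintro _ ⟨w, hw, rfl⟩
  exact h w hw

theorem P2_le : subOf gen p2 ≤ A0 := subOf_le fun w hw => mem_A0_of_comB com_p (by simp [hw])
theorem P3_le : subOf gen p3 ≤ A0 := subOf_le fun w hw => mem_A0_of_comB com_p (by simp [hw])
theorem P5_le : subOf gen p5 ≤ A0 := subOf_le fun w hw => mem_A0_of_comB com_p (by simp [hw])

theorem seven_comm : eqW ([3, 5, 6, 1, 6] ++ xw) (xw ++ [3, 5, 6, 1, 6]) = true := by decide +kernel
theorem seven_is7 : is7 (evalW [3, 5, 6, 1, 6]) = true := by decide +kernel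

/-- an element of order 7 -/
theorem exists_seven : ∃ y ∈ A0, orderOf y = 7 := by
  have hp : Fact (Nat.Prime 7) := ⟨by norm_num⟩
  obtain ⟨h3, h21⟩ := is7_spec (rep_evalW [3, 5, 6, 1, 6]) seven_is7
  exact ⟨_, A0.pow_mem (mem_A0_of seven_comm) 3, orderOf_eq_prime (by rw [← pow_mul]; exact h21) h3⟩

theorem dvd_card_A0 : 378000 ∣ Nat.card A0 := by
  have d2 : 16 ∣ Nat.card A0 := by rw [← card_P2]; exact Subgroup.card_dvd_of_le P2_le
  have d3 : 27 ∣ Nat.card A0 := by rw [← card_P3]; exact Subgroup.card_dvd_of_le P3_le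
  have d5 : 125 ∣ Nat.card A0 := by rw [← card_P5]; exact Subgroup.card_dvd_of_le P5_le
  obtain ⟨y, hy, hy7⟩ := exists_seven
  have d7 : 7 ∣ Nat.card A0 := by
    have := Subgroup.orderOf_dvd_natCard A0 hy
    rwa [hy7] at this
  have e1 : 16 * 27 ∣ Nat.card A0 := Nat.Coprime.mul_dvd_of_dvd_of_dvd (by norm_num) d2 d3
  have e2 : 16 * 27 * 125 ∣ Nat.card A0 := Nat.Coprime.mul_dvd_of_dvd_of_dvd (by norm_num) e1 d5
  exact Nat.Coprime.mul_dvd_of_dvd_of_dvd (by norm_num) e2 d7

theorem card_A0 (h : Nat.card A0 ≤ 378000) : Nat.card A0 = 378000 := by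
  have hfin := finite_GL75
  exact le_antisymm h (Nat.le_of_dvd Nat.card_pos dvd_card_A0)

/-- **Normal subgroups of `SU₃(5)`.** -/
theorem normal_A0 (h : Nat.card A0 = 378000) (M : Subgroup GL75) (hM : M ≤ A0) (hx : x7 ∈ M)
    (hinv : ∀ a ∈ A0, ∀ m ∈ M, a * m * a⁻¹ ∈ M) : M = Subgroup.zpowers x7 ∨ M = A0 := by
  have hfin := finite_GL75
  have hp : Fact (Nat.Prime 7) := ⟨by norm_num⟩
  have cardsub : ∀ P : Subgroup GL75, P ≤ A0 → Nat.card (P.subgroupOf A0) = Nat.card P := fun P hP =>
    Nat.card_congr (Subgroup.subgroupOfEquivOfLe hP).toEquiv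
  have hxz : Subgroup.zpowers x7 ≤ A0 := by rw [Subgroup.zpowers_le]; exact x7_mem
  have hM' : (M.subgroupOf A0).Normal := ⟨fun m hm g => hinv g g.2 m hm⟩
  have key := Normal.normal_dichotomy (A := A0) h ((Subgroup.zpowers x7).subgroupOf A0)
    (by rw [cardsub _ hxz, Nat.card_zpowers]; exact order_x)
    ((subOf gen p2).subgroupOf A0) ((subOf gen p3).subgroupOf A0) ((subOf gen p5).subgroupOf A0)
    (by rw [cardsub _ P2_le, card_P2]) (by rw [cardsub _ P3_le, card_P3]) (by rw [cardsub _ P5_le, card_P5])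
    (by
      intro m hm hmZ N hN hmN
      have h1 : Wit m := by
        have h2 : (((m : GL75) = 1 ∨ (m : GL75) = x7 ∨ (m : GL75) = x7⁻¹) ∨ Wit m) := by
          rcases hm with hm | hm | hm
          · exact (chkA_spec chk_p2).2 _ hm
          · exact (chkA_spec chk_p3).2 _ hm
          · exact (chkA_spec chk_p5).2 _ hm
        rcases h2 with h2 | h2
        · exfalso
          apply hmZ
          rw [Subgroup.mem_subgroupOf]
          rcases h2 with h2 | h2 | h2
          · rw [h2]; exact Subgroup.one_mem _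
          · rw [h2]; exact Subgroup.mem_zpowers _
          · rw [h2]; exact Subgroup.inv_mem _ (Subgroup.mem_zpowers _)
        · exact h2
      obtain ⟨g, hg, k, hk, h3, h21⟩ := h1
      let g' : A0 := ⟨g, hg⟩
      let k' : A0 := ⟨k, hk⟩
      have hyN : g' * m * g'⁻¹ * (k' * m * k'⁻¹) * m ∈ N :=
        N.mul_mem (N.mul_mem (hN.conj_mem m hmN g') (hN.conj_mem m hmN k')) hmN
      have hyv : ((g' * m * g'⁻¹ * (k' * m * k'⁻¹) * m : A0) : GL75) =
          g * m * g⁻¹ * (k * m * k⁻¹) * m := rfl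
      rw [← hyv] at h3 h21
      generalize g' * m * g'⁻¹ * (k' * m * k'⁻¹) * m = y at hyN h3 h21
      refine ⟨y ^ 3, N.pow_mem hyN 3, ?_⟩
      apply orderOf_eq_prime
      · rw [← pow_mul]
        apply Subtype.ext
        rw [Subgroup.coe_pow, Subgroup.coe_one]
        exact h21
      · intro h
        apply h3
        rw [← Subgroup.coe_pow, h, Subgroup.coe_one])
    (by
      intro N hN hZN h7
      have hx' : x7 ∈ N.map A0.subtype := ⟨⟨x7, x7_mem⟩, hZN (Subgroup.mem_zpowers x7), rfl⟩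
      have h7' : ∀ y ∈ A0, orderOf y = 7 → y ∈ N.map A0.subtype := by
        intro y hy hy7
        exact ⟨⟨y, hy⟩, h7 ⟨y, hy⟩ (by rw [← Subgroup.orderOf_coe]; exact hy7), rfl⟩
      have hall := facB_spec hx' h7' _ _ chk_fac com_fac com_p
      have hle : ∀ ws : List (List ℕ), (∀ w ∈ ws, w ∈ p2 ++ p3 ++ p5) → (subOf gen ws).subgroupOf A0 ≤ N := by
        intro ws hws y hy
        have h1 : (y : GL75) ∈ N.map A0.subtype :=
          subOf_le (fun w hw => hall w (hws w hw)) hy
        obtain ⟨y', hy', e⟩ := h1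
        have : y' = y := Subtype.ext e
        rwa [← this]
      exact ⟨hle _ fun w hw => by simp [hw], hle _ fun w hw => by simp [hw], hle _ fun w hw => by simp [hw]⟩)
    (M.subgroupOf A0) hM' (by
      intro y hy
      have h1 : Subgroup.zpowers x7 ≤ M := by rw [Subgroup.zpowers_le]; exact hx
      exact h1 hy)
  rcases key with h1 | h1
  · left
    have h2 := congrArg (Subgroup.map A0.subtype) h1
    rwa [Subgroup.subgroupOf_map_subtype, Subgroup.subgroupOf_map_subtype, inf_eq_left.mpr hM,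
      inf_eq_left.mpr hxz] at h2
  · right
    exact le_antisymm hM (Subgroup.subgroupOf_eq_top.mp h1)

end Cfsg.Agent.Ly.McL.Cent
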