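import Cfsg.Agent.Ly.McL.Simple

/-!
# Double cosets of `C_H(x)` in `C_G(x)` from the double cosets of `H` in `G`
-/

set_option autoImplicit false

namespace Cfsg.Agent.Ly.McL.Cosets

open Subgroup

variable {G : Type*} [Group G]

/-- `g` lies in the double coset `H w H`. -/
def InDC (H : Subgroup G) (w g : G) : Prop := ∃ h₁ ∈ H, ∃ h₂ ∈ H, g = h₁ * w * h₂

/-- `H ∩ w H w⁻¹` -/
def KK (H : Subgroup G) (w : G) : Subgroup G := H ⊓ H.map (MulAut.conj w).toMonoidHom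

theorem mem_KK {H : Subgroup G} {w k : G} : k ∈ KK H w ↔ k ∈ H ∧ w⁻¹ * k * w ∈ H := by
  unfold KK
  rw [mem_inf]
  constructor
  · rintro ⟨h1, ⟨h, hh, rfl⟩⟩
    refine ⟨h1, ?_⟩
    have : w⁻¹ * (MulAut.conj w).toMonoidHom h * w = h := by
      simp [MulAut.conj_apply, mul_assoc]
    rw [this]; exact hh
  · rintro ⟨h1, h2⟩
    refine ⟨h1, ⟨_, h2, ?_⟩⟩
    simp [MulAut.conj_apply, mul_assoc]

/-- Fibres of `(a, b) ↦ a g b`. -/
theorem card_dc_mul (A : Subgroup G) (g : G) [Finite G] :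
    Nat.card {y : G // InDC A g y} * Nat.card (KK A g) = Nat.card A * Nat.card A := by
  classical
  choose f1 hf1 f2 hf2 hf using fun y : {y : G // InDC A g y} => y.2
  rw [← Nat.card_prod, ← Nat.card_prod]
  apply Nat.card_congr
  refine Equiv.ofBijective (fun p : {y : G // InDC A g y} × KK A g =>
    ((⟨f1 p.1 * p.2, A.mul_mem (hf1 p.1) (mem_KK.mp p.2.2).1⟩ : A),
      (⟨(g⁻¹ * (p.2 : G) * g)⁻¹ * f2 p.1, A.mul_mem (A.inv_mem (mem_KK.mp p.2.2).2) (hf2 p.1)⟩ : A))) ⟨?_, ?_⟩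
  · rintro ⟨y, d⟩ ⟨y', d'⟩ h
    simp only [Prod.mk.injEq, Subtype.mk.injEq] at h
    obtain ⟨h1, h2⟩ := h
    have e : ∀ (z : {y : G // InDC A g y}) (d : KK A g),
        (f1 z * (d : G)) * g * ((g⁻¹ * (d : G) * g)⁻¹ * f2 z) = z.1 := by
      intro z d
      conv_rhs => rw [hf z]
      group
    have hy : y = y' := by
      apply Subtype.ext
      rw [← e y d, ← e y' d', h1, h2]
    subst hy
    have hd : d = d' := Subtype.ext (mul_left_cancel h1)
    rw [hd]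
  · rintro ⟨⟨a, ha⟩, ⟨b, hb⟩⟩
    have key : ∀ u v : G, u ∈ A → v ∈ A → a * g * b = u * g * v →
        u⁻¹ * a ∈ KK A g ∧ (g⁻¹ * (u⁻¹ * a) * g)⁻¹ * v = b := by
      intro u v hu hv h1
      have h4 : a * g = u * g * v * b⁻¹ := by rw [← h1, mul_inv_cancel_right]
      have h5 : g⁻¹ * (u⁻¹ * a) * g = v * b⁻¹ := by
        calc g⁻¹ * (u⁻¹ * a) * g = g⁻¹ * u⁻¹ * (a * g) := by group
          _ = v * b⁻¹ := by rw [h4]; group
      refine ⟨mem_KK.mpr ⟨A.mul_mem (A.inv_mem hu) ha, ?_⟩, ?_⟩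
      · rw [h5]; exact A.mul_mem hv (A.inv_mem hb)
      · rw [h5]; group
    have hy : InDC A g (a * g * b) := ⟨a, ha, b, hb, rfl⟩
    obtain ⟨hd, he⟩ := key _ _ (hf1 ⟨_, hy⟩) (hf2 ⟨_, hy⟩) (hf ⟨_, hy⟩)
    refine ⟨(⟨_, hy⟩, ⟨_, hd⟩), ?_⟩
    simp only [Prod.mk.injEq, Subtype.mk.injEq]
    exact ⟨mul_inv_cancel_left _ _, he⟩

section data

variable (H : Subgroup G) (x : G)

theorem KK_mul {u w h k : G} (hu : u ∈ H) (hh : h ∈ H) :
    k ∈ KK H (u * w * h) ↔ u⁻¹ * k * u ∈ KK H w := by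
  rw [mem_KK, mem_KK]
  have e : (u * w * h)⁻¹ * k * (u * w * h) = h⁻¹ * (w⁻¹ * (u⁻¹ * k * u) * w) * h := by group
  rw [e, H.mul_mem_cancel_right hh, H.mul_mem_cancel_left (H.inv_mem hh),
    H.mul_mem_cancel_right hu, H.mul_mem_cancel_left (H.inv_mem hu)]

/-- Elements of `C_G(x)` in a double coset of `H`. -/
theorem centralizer_dc {w u h c : G} (hu : u ∈ H) (hh : h ∈ H) (hc : c = u * w * h) (hcx : c * x = x * c)
    (hxH : x ∈ H)
    (hcls : ∀ k ∈ KK H w, (∃ g ∈ H, k = g * x * g⁻¹) → ∃ m ∈ KK H w, k = m * (u⁻¹ * x * u) * m⁻¹)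
    {g : G} (hg : g * x = x * g) (hgw : InDC H w g) :
    ∃ a ∈ H, a * x = x * a ∧ ∃ b ∈ H, b * x = x * b ∧ g = a * c * b := by
  obtain ⟨h₁, hh₁, h₂, hh₂, rfl⟩ := hgw
  set p := h₁ * u⁻¹ with hp
  set q := h⁻¹ * h₂ with hq
  have hpH : p ∈ H := H.mul_mem hh₁ (H.inv_mem hu)
  have hqH : q ∈ H := H.mul_mem (H.inv_mem hh) hh₂
  have hgp : h₁ * w * h₂ = p * c * q := by rw [hp, hq, hc]; group
  rw [hgp] at hg ⊢
  set t := p⁻¹ * x * p with ht
  have htH : t ∈ H := H.mul_mem (H.mul_mem (H.inv_mem hpH) hxH) hpH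
  have h1 : c⁻¹ * t * c = q * x * q⁻¹ := by
    have h2 : t * c = c * (q * x * q⁻¹) := by
      calc t * c = p⁻¹ * (x * (p * c * q)) * q⁻¹ := by rw [ht]; group
        _ = p⁻¹ * (p * c * q * x) * q⁻¹ := by rw [hg]
        _ = c * (q * x * q⁻¹) := by group
    rw [mul_assoc, h2, inv_mul_cancel_left]
  have htK : u⁻¹ * t * u ∈ KK H w := by
    rw [← KK_mul H hu hh, ← hc, mem_KK]
    refine ⟨htH, ?_⟩
    rw [h1]
    exact H.mul_mem (H.mul_mem hqH hxH) (H.inv_mem hqH)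
  obtain ⟨m, hm, hmt⟩ := hcls _ htK ⟨u⁻¹ * p⁻¹, H.mul_mem (H.inv_mem hu) (H.inv_mem hpH), by rw [ht]; group⟩
  set n := u * m * u⁻¹ with hn
  have htn : t = n * x * n⁻¹ := by
    have : t = u * (u⁻¹ * t * u) * u⁻¹ := by group
    rw [this, hmt, hn]; group
  have hnK : n ∈ KK H c := by
    rw [hc, KK_mul H hu hh, hn]
    have : u⁻¹ * (u * m * u⁻¹) * u = m := by group
    rw [this]; exact hm
  obtain ⟨hnH, hnc⟩ := mem_KK.mp hnK
  have hax : p * n * x = x * (p * n) := by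
    calc p * n * x = p * (n * x * n⁻¹) * n := by group
      _ = p * (p⁻¹ * x * p) * n := by rw [← htn]
      _ = x * (p * n) := by group
  refine ⟨p * n, H.mul_mem hpH hnH, hax, (c⁻¹ * n * c)⁻¹ * q, H.mul_mem (H.inv_mem hnc) hqH, ?_, by group⟩
  have hb : (c⁻¹ * n * c)⁻¹ * q = c⁻¹ * (p * n)⁻¹ * (p * c * q) := by group
  rw [hb]
  have hci : c⁻¹ * x = x * c⁻¹ := by
    rw [inv_mul_eq_iff_eq_mul, ← mul_assoc, hcx, mul_inv_cancel_right]
  have hai : (p * n)⁻¹ * x = x * (p * n)⁻¹ := by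
    rw [inv_mul_eq_iff_eq_mul, ← mul_assoc, hax, mul_inv_cancel_right]
  calc c⁻¹ * (p * n)⁻¹ * (p * c * q) * x = c⁻¹ * (p * n)⁻¹ * (p * c * q * x) := by group
    _ = c⁻¹ * ((p * n)⁻¹ * x) * (p * c * q) := by rw [hg]; group
    _ = (c⁻¹ * x) * (p * n)⁻¹ * (p * c * q) := by rw [hai]; group
    _ = x * (c⁻¹ * (p * n)⁻¹ * (p * c * q)) := by rw [hci]; group

end data

/-- The numbers `|C_{K_i}(x)|`. -/
def cc : Fin 5 → ℕ := ![378000, 1500, 108, 144, 504]

/-- the orders of the two-point stabilisers -/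
def nn : Fin 5 → ℕ := ![5859000000, 300000, 6048, 2880, 1008]

theorem F_mul_cc (i : Fin 5) : Simple.F i * cc i = 378000 := by
  fin_cases i <;> simp [Simple.F, cc]

theorem nn_inj : Function.Injective nn := by
  intro i j h
  fin_cases i <;> fin_cases j <;> simp [nn] at h ⊢

variable [Finite G]

/-- **The triple cover of McL as a centraliser.** -/
theorem mcl_of_data (H : Subgroup G) (x : G) (hxH : x ∈ H) (hx3 : orderOf x = 3)
    (w : Fin 5 → G) (hw0 : w 0 = 1) (hw : ∀ g : G, ∃ i, ∃ h₁ ∈ H, ∃ h₂ ∈ H, g = h₁ * w i * h₂)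
    (hnn : ∀ i, Nat.card (KK H (w i)) = nn i)
    (u c : Fin 5 → G) (hu : ∀ i, u i ∈ H) (hc : ∀ i, ∃ h ∈ H, c i = u i * w i * h)
    (hcx : ∀ i, c i * x = x * c i)
    (hcls : ∀ i, i ≠ 0 → ∀ k ∈ KK H (w i), (∃ g ∈ H, k = g * x * g⁻¹) →
      ∃ m ∈ KK H (w i), k = m * ((u i)⁻¹ * x * u i) * m⁻¹)
    (hcc : ∀ i, i ≠ 0 →
      Nat.card (centralizer ({(u i)⁻¹ * x * u i} : Set G) ⊓ KK H (w i) : Subgroup G) = cc i)
    (hA0 : Nat.card (centralizer ({x} : Set G) ⊓ H : Subgroup G) = 378000)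
    (hA2 : ∀ M : Subgroup G, M ≤ centralizer ({x} : Set G) ⊓ H → x ∈ M →
      (∀ a ∈ centralizer ({x} : Set G) ⊓ H, ∀ m ∈ M, a * m * a⁻¹ ∈ M) →
      M = zpowers x ∨ M = centralizer ({x} : Set G) ⊓ H)
    (hab : ∃ g h : G, g ∈ centralizer ({x} : Set G) ∧ h ∈ centralizer ({x} : Set G) ∧ g * h ≠ h * g) :
    Nat.card (centralizer ({x} : Set G)) = 2694384000 ∧
    Nat.card (center (centralizer ({x} : Set G))) = 3 ∧
    Cfsg.IsMcL (centralizer ({x} : Set G) ⧸ center (centralizer ({x} : Set G))) := by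
  classical
  set C := centralizer ({x} : Set G) with hC
  have memC : ∀ g : G, g ∈ C ↔ g * x = x * g := fun g => mem_centralizer_singleton_iff
  -- the double cosets are different
  have huniq : ∀ i j, ∀ g, InDC H (w i) g → InDC H (w j) g → i = j := by
    rintro i j g ⟨p, hp, q, hq, rfl⟩ ⟨p', hp', q', hq', e⟩
    apply nn_inj
    rw [← hnn i, ← hnn j]
    have h1 : w i = (p⁻¹ * p') * w j * (q' * q⁻¹) := by
      calc w i = p⁻¹ * (p * w i * q) * q⁻¹ := by group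
        _ = _ := by rw [e]; group
    have hpp : p⁻¹ * p' ∈ H := H.mul_mem (H.inv_mem hp) hp'
    have hqq : q' * q⁻¹ ∈ H := H.mul_mem hq' (H.inv_mem hq)
    have hmem : ∀ k : G, k ∈ KK H (w i) ↔ (p⁻¹ * p')⁻¹ * k * (p⁻¹ * p') ∈ KK H (w j) := by
      intro k
      rw [h1]
      exact KK_mul H hpp hqq
    apply Nat.card_congr
    refine ⟨fun k => ⟨(p⁻¹ * p')⁻¹ * k * (p⁻¹ * p'), (hmem k).mp k.2⟩,
      fun k => ⟨(p⁻¹ * p') * k * (p⁻¹ * p')⁻¹, (hmem _).mpr ?_⟩, ?_, ?_⟩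
    · have e2 : (p⁻¹ * p')⁻¹ * (p⁻¹ * p' * (k : G) * (p⁻¹ * p')⁻¹) * (p⁻¹ * p') = k := by group
      rw [e2]; exact k.2
    · intro k
      apply Subtype.ext
      simp only
      group
    · intro k
      apply Subtype.ext
      simp only
      group
  choose idx hidx using hw
  -- index 0
  have hc0H : ∀ g, InDC H (w 0) g ↔ g ∈ H := by
    intro g
    rw [hw0]
    constructor
    · rintro ⟨p, hp, q, hq, rfl⟩
      rw [mul_one]; exact H.mul_mem hp hq
    · intro hg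
      exact ⟨g, hg, 1, H.one_mem, by group⟩
  have hcls' : ∀ i, ∀ k ∈ KK H (w i), (∃ g ∈ H, k = g * x * g⁻¹) →
      ∃ m ∈ KK H (w i), k = m * ((u i)⁻¹ * x * u i) * m⁻¹ := by
    intro i
    by_cases hi : i = 0
    · subst hi
      rintro k hk ⟨g, hg, rfl⟩
      have hK0 : ∀ k, k ∈ KK H (w 0) ↔ k ∈ H := by
        intro k
        rw [hw0, mem_KK]
        simp
      refine ⟨g * u 0, (hK0 _).mpr (H.mul_mem hg (hu 0)), by group⟩
    · exact hcls i hi
  -- every element of C in H w_i H lies in A c_i A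
  have hL1 : ∀ i, ∀ g ∈ C, InDC H (w i) g → ∃ a ∈ H, a ∈ C ∧ ∃ b ∈ H, b ∈ C ∧ g = a * c i * b := by
    intro i g hg hgi
    obtain ⟨h, hh, hci⟩ := hc i
    obtain ⟨a, ha, hax, b, hb, hbx, e⟩ := centralizer_dc H x (hu i) hh hci (hcx i) hxH (hcls' i)
      ((memC g).mp hg) hgi
    exact ⟨a, ha, (memC a).mpr hax, b, hb, (memC b).mpr hbx, e⟩
  have hcDC : ∀ i, InDC H (w i) (c i) := by
    intro i
    obtain ⟨h, hh, hci⟩ := hc i
    exact ⟨u i, hu i, h, hh, hci⟩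
  have hDCmul : ∀ i g a b, a ∈ H → b ∈ H → InDC H (w i) g → InDC H (w i) (a * g * b) := by
    rintro i g a b ha hb ⟨p, hp, q, hq, rfl⟩
    exact ⟨a * p, H.mul_mem ha hp, q * b, H.mul_mem hq hb, by group⟩
  -- the group C
  let A : Subgroup C := H.subgroupOf C
  have memA : ∀ g : C, g ∈ A ↔ (g : G) ∈ H := fun g => mem_subgroupOf
  let c' : Fin 5 → C := fun i => ⟨c i, (memC _).mpr (hcx i)⟩
  let cls : C → Fin 5 := fun g => idx g
  have hclsDC : ∀ g : C, InDC H (w (cls g)) (g : G) := fun g => hidx g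
  have hclsi : ∀ (g : C) i, cls g = i ↔ InDC H (w i) (g : G) := by
    intro g i
    constructor
    · rintro rfl; exact hclsDC g
    · intro h; exact huniq _ _ _ (hclsDC g) h
  have hclsA : ∀ (g : C) i, cls g = i ↔ InDC A (c' i) g := by
    intro g i
    rw [hclsi]
    constructor
    · intro h
      obtain ⟨a, haH, haC, b, hbH, hbC, e⟩ := hL1 i g g.2 h
      exact ⟨⟨a, haC⟩, haH, ⟨b, hbC⟩, hbH, Subtype.ext e⟩
    · rintro ⟨a, ha, b, hb, rfl⟩
      exact hDCmul i (c i) a b ((memA a).mp ha) ((memA b).mp hb) (hcDC i)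
  have hcls2 : ∀ g g' : C, cls g' = cls g ↔ ∃ a ∈ A, ∃ b ∈ A, g' = a * g * b := by
    intro g g'
    constructor
    · intro h
      obtain ⟨a, ha, b, hb, e⟩ := (hclsA g' (cls g)).mp h
      obtain ⟨a', ha', b', hb', e'⟩ := (hclsA g (cls g)).mp rfl
      refine ⟨a * a'⁻¹, A.mul_mem ha (A.inv_mem ha'), b'⁻¹ * b, A.mul_mem (A.inv_mem hb') hb, ?_⟩
      rw [e]
      conv_rhs => rw [e']
      group
    · rintro ⟨a, ha, b, hb, rfl⟩
      rw [hclsi]
      exact hDCmul _ _ _ _ ((memA a).mp ha) ((memA b).mp hb) (hclsDC g)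
  have hcls0 : ∀ g : C, cls g = 0 ↔ g ∈ A := by
    intro g
    rw [hclsi, hc0H, memA]
  -- order of A
  have hAcard : Nat.card A = 378000 := by
    rw [← hA0]
    apply Nat.card_congr
    refine ⟨fun a => ⟨a.1.1, mem_inf.mpr ⟨a.1.2, a.2⟩⟩, fun a => ⟨⟨a.1, (mem_inf.mp a.2).1⟩, (mem_inf.mp a.2).2⟩,
      fun a => rfl, fun a => rfl⟩
  -- order of `A ∩ A^c`
  have hKcard : ∀ i, Nat.card (KK A (c' i)) = cc i := by
    intro i
    have h0 : ∀ k : C, k ∈ KK A (c' i) ↔ (k : G) ∈ KK H (c i) := by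
      intro k
      rw [mem_KK, mem_KK]
      rfl
    obtain ⟨h, hh, hci⟩ := hc i
    by_cases hi : i = 0
    · subst hi
      have h1 : ∀ k : C, k ∈ KK A (c' 0) ↔ k ∈ A := by
        intro k
        rw [h0, memA, mem_KK]
        have hcH : c 0 ∈ H := by
          rw [hci, hw0, mul_one]
          exact H.mul_mem (hu 0) hh
        constructor
        · exact fun h => h.1
        · exact fun h => ⟨h, H.mul_mem (H.mul_mem (H.inv_mem hcH) h) hcH⟩
      have h2 : KK A (c' 0) = A := by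
        ext k; exact h1 k
      rw [h2, hAcard]
      rfl
    · rw [← hcc i hi]
      apply Nat.card_congr
      have hxu : ∀ k : G, k * x = x * k ↔ (u i)⁻¹ * k * u i * ((u i)⁻¹ * x * u i) =
          ((u i)⁻¹ * x * u i) * ((u i)⁻¹ * k * u i) := by
        intro k
        have e1 : (u i)⁻¹ * k * u i * ((u i)⁻¹ * x * u i) = (u i)⁻¹ * (k * x) * u i := by group
        have e2 : ((u i)⁻¹ * x * u i) * ((u i)⁻¹ * k * u i) = (u i)⁻¹ * (x * k) * u i := by group
        rw [e1, e2]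
        constructor
        · intro h; rw [h]
        · intro h
          exact mul_left_cancel (mul_right_cancel h)
      refine ⟨fun k => ⟨(u i)⁻¹ * k.1.1 * u i, ?_⟩, fun k => ⟨⟨u i * k.1 * (u i)⁻¹, ?_⟩, ?_⟩, ?_, ?_⟩
      · rw [mem_inf, mem_centralizer_singleton_iff]
        refine ⟨(hxu _).mp ((memC _).mp k.1.2), ?_⟩
        have := (h0 k.1).mp k.2
        rwa [hci, KK_mul H (hu i) hh] at this
      · have h3 := (mem_inf.mp k.2).1
        rw [mem_centralizer_singleton_iff] at h3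
        rw [memC, hxu]
        have e3 : (u i)⁻¹ * (u i * k.1 * (u i)⁻¹) * u i = k.1 := by group
        rw [e3]; exact h3
      · rw [h0, hci, KK_mul H (hu i) hh]
        have e3 : (u i)⁻¹ * (u i * k.1 * (u i)⁻¹) * u i = k.1 := by group
        change (u i)⁻¹ * (u i * k.1 * (u i)⁻¹) * u i ∈ _
        rw [e3]; exact (mem_inf.mp k.2).2
      · intro k
        apply Subtype.ext
        apply Subtype.ext
        change u i * ((u i)⁻¹ * k.1.1 * u i) * (u i)⁻¹ = k.1.1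
        group
      · intro k
        apply Subtype.ext
        change (u i)⁻¹ * (u i * k.1 * (u i)⁻¹) * u i = k.1
        group
  have hccpos : ∀ i, 0 < cc i := by
    intro i
    rw [← hKcard i]; exact Nat.card_pos
  have hsize : ∀ j, Nat.card {g : C // cls g = j} = Simple.F j * Nat.card A := by
    intro j
    have h1 := card_dc_mul A (c' j)
    rw [hKcard j] at h1
    have h2 : Nat.card {g : C // cls g = j} = Nat.card {y : C // InDC A (c' j) y} :=
      Nat.card_congr (Equiv.subtypeEquivRight fun g => hclsA g j)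
    rw [h2]
    apply Nat.eq_of_mul_eq_mul_right (hccpos j)
    rw [h1]
    conv_lhs => rw [hAcard]
    rw [mul_right_comm, F_mul_cc, hAcard]
  have hCcard : Nat.card C = 7128 * Nat.card A := by
    have h1 : Nat.card C = ∑ j, Nat.card {g : C // cls g = j} := by
      rw [← Nat.card_sigma]
      exact Nat.card_congr (Equiv.sigmaFiberEquiv cls).symm
    rw [h1]
    simp only [hsize]
    rw [← Finset.sum_mul]
    rfl
  have hC2 : Nat.card C = 2694384000 := by rw [hCcard, hAcard]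
  -- the centre
  let x' : C := ⟨x, (memC x).mpr rfl⟩
  have hxc : ∀ z ∈ zpowers x', ∀ g, g * z = z * g := by
    rintro _ ⟨n, rfl⟩ g
    have h1 : Commute g x' := Subtype.ext ((memC g.1).mp g.2)
    exact (h1.zpow_right n).eq
  have hZn : (zpowers x').Normal := ⟨fun z hz g => by rw [hxc z hz g, mul_inv_cancel_right]; exact hz⟩
  have hZcard : Nat.card (zpowers x') = 3 := by
    rw [Nat.card_zpowers, ← hx3]
    exact (orderOf_coe x').symm
  have hxA : x' ∈ A := (memA x').mpr hxH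
  have hZA : zpowers x' ≤ A := by rw [zpowers_le]; exact hxA
  have hAmax : ∀ M : Subgroup C, M ≤ A → zpowers x' ≤ M → (∀ a ∈ A, ∀ m ∈ M, a * m * a⁻¹ ∈ M) →
      M = zpowers x' ∨ M = A := by
    intro M hMA hZM hinv
    have hmapA : A.map C.subtype = C ⊓ H := by
      rw [subgroupOf_map_subtype, inf_comm]
    have h1 := hA2 (M.map C.subtype) (by rw [← hmapA]; exact map_mono hMA)
      ⟨x', hZM (mem_zpowers x'), rfl⟩ (by
        rintro a ha _ ⟨m, hm, rfl⟩
        exact ⟨⟨a, (mem_inf.mp ha).1⟩ * m * ⟨a, (mem_inf.mp ha).1⟩⁻¹,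
          hinv ⟨a, (mem_inf.mp ha).1⟩ ((memA _).mpr (mem_inf.mp ha).2) m hm, rfl⟩)
    have hinj : Function.Injective (Subgroup.map C.subtype) := map_injective C.subtype_injective
    rcases h1 with h1 | h1
    · left
      apply hinj
      rw [h1, MonoidHom.map_zpowers]
      rfl
    · right
      apply hinj
      rw [h1, hmapA]
  obtain ⟨h2, h3⟩ := Simple.center_and_quotient (zpowers x') hZcard hxc hC2
    (fun N hN hZN => Simple.normal_eq A (zpowers x') hZA hZcard hxc hCcard hAmax cls hcls2 hcls0 hsize N hZN)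
    (by
      obtain ⟨g, h, hg, hh, hne⟩ := hab
      exact ⟨⟨g, hg⟩, ⟨h, hh⟩, fun e => hne (congrArg Subtype.val e)⟩)
  exact ⟨hC2, h2, h3⟩

end Cfsg.Agent.Ly.McL.Cosets
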