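import Cfsg.Agent.Ly.Index
import Cfsg.Agent.Ly.Exact
import Cfsg.Agent.Ly.McL.Cosets
import Cfsg.Agent.Ly.McL.Cent

/-!
# The triple cover of McL in the Lyons group
-/

set_option autoImplicit false

namespace Cfsg.Agent.Ly.McL.Main

open Subgroup
open Cfsg.Agent.Ly.Mat7 Cfsg.Agent.Ly.Walk Cfsg.Agent.Ly.WalkData Cfsg.Agent.Ly.WalkCtx Cfsg.Agent.Ly.CoverCore
  Cfsg.Agent.Ly.Cover Cfsg.Agent.Ly.CoverData Cfsg.Agent.Ly.Upper Cfsg.Agent.Ly.Index
open Cfsg.Agent.Ly.McL.Lists Cfsg.Agent.Ly.McL.Data Cfsg.Agent.Ly.McL.Checks Cfsg.Agent.Ly.McL.Sub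
  Cfsg.Agent.Ly.McL.Cent Cfsg.Agent.Ly.McL.Cosets

/-! ### Words -/

theorem w_kx : eqW (ex tK kx) xw = true := by decide +kernel
theorem w_kx' : eqW (ex tS kx) xw = true := by decide +kernel
theorem w_d : eqW ([3] ++ xw) (xw ++ [3]) = true := by decide +kernel
theorem w_h4 : eqW (h4 ++ xw) (xw ++ h4) = true := by decide +kernel
theorem w_h4' : eqW h4 (ex tK k4 ++ [1, 3]) = true := by decide +kernel
theorem w_cb : eqW ([2, 5, 2, 1] ++ xw) (xw ++ [2, 5, 2, 1]) = true := by decide +kernel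
theorem w_ne : eqW ([3] ++ [2, 5, 2, 1]) ([2, 5, 2, 1] ++ [3]) = false := by decide +kernel

theorem edge_mem : (⟨2, [3], 3, v3⟩ : Edge) ∈ baseE ++ derE.map Prod.fst := by
  apply List.mem_append_right
  have h : 7 < derE.length := by decide
  exact List.mem_map.mpr ⟨derE[7], List.getElem_mem h, rfl⟩

/-- transport of a subgroup along an injective homomorphism -/
theorem card_cent_map {P : Type*} [Group P] (φ : Hhat →* P) (hφ : Function.Injective φ) (K : Subgroup GL75)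
    (hK : K ≤ Hhat) (s : Hhat) :
    Nat.card (centralizer ({φ s} : Set P) ⊓ (K.subgroupOf Hhat).map φ : Subgroup P) =
      Nat.card (centralizer ({(s : GL75)} : Set GL75) ⊓ K : Subgroup GL75) := by
  symm
  apply Nat.card_congr
  refine Equiv.ofBijective (fun k => ⟨φ ⟨k.1, hK (mem_inf.mp k.2).2⟩, mem_inf.mpr ⟨?_, ?_⟩⟩) ⟨?_, ?_⟩
  · rw [mem_centralizer_singleton_iff, ← map_mul, ← map_mul]
    congr 1
    apply Subtype.ext
    exact mem_centralizer_singleton_iff.mp (mem_inf.mp k.2).1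
  · exact ⟨⟨k.1, hK (mem_inf.mp k.2).2⟩, (mem_inf.mp k.2).2, rfl⟩
  · intro k k' h
    have h1 := hφ (congrArg Subtype.val h)
    have h2 : k.1 = k'.1 := congrArg (fun y : Hhat => (y : GL75)) h1
    exact Subtype.ext h2
  · rintro ⟨y, hy⟩
    obtain ⟨h1, k, hk, rfl⟩ := mem_inf.mp hy
    refine ⟨⟨k.1, mem_inf.mpr ⟨?_, hk⟩⟩, rfl⟩
    rw [mem_centralizer_singleton_iff] at h1 ⊢
    rw [← map_mul, ← map_mul] at h1
    exact congrArg Subtype.val (hφ h1)

/-- `ev gen w` in `Hhat` -/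
abbrev hw (w : List ℕ) : Hhat := ev Data.hgen w

theorem coe_hw (w : List ℕ) : ((hw w : Hhat) : GL75) = ev gen w := Data.coe_ev w

theorem nn_getD (i : Fin 5) : nn i = [5859000000, 300000, 6048, 2880, 1008].getD i 0 := by
  fin_cases i <;> rfl

theorem cc_getD (i : Fin 5) : cc i = [378000, 1500, 108, 144, 504].getD i 0 := by
  fin_cases i <;> rfl

section

variable {P : Type*} [Group P] [Finite P] {x : Fin 5 → P} (D : Upper.Data x)
  (hgen : closure (Set.range x) = ⊤) (hcard : Nat.card P = 51765179004000000)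

include D hgen hcard

theorem card_HH : Nat.card (HH x) = 5859000000 ∧ (HH x).index = 8835156 := by
  obtain ⟨-, h1⟩ := index_le D hgen
  obtain ⟨-, h2⟩ := finite_HH D
  have h3 := (HH x).card_mul_index
  rw [hcard] at h3
  have h4 : Nat.card (HH x) = 5859000000 := by
    by_contra hne
    have h5 : Nat.card (HH x) ≤ 5858999999 := by omega
    have h6 : Nat.card (HH x) * (HH x).index ≤ 5858999999 * 8835156 := Nat.mul_le_mul h5 h1
    rw [h3] at h6
    norm_num at h6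
  refine ⟨h4, ?_⟩
  rw [h4] at h3
  omega

theorem injective_φ : Function.Injective D.φ := by
  have h1 : Nat.card D.φ.range = Nat.card Hhat := by
    rw [D.range_φ, (card_HH D hgen hcard).1, T1.card_Hhat]
  have h2 : Function.Bijective D.φ.rangeRestrict :=
    (Nat.bijective_iff_surjective_and_card _).mpr ⟨D.φ.rangeRestrict_surjective, h1.symm⟩
  intro a b h
  exact h2.1 (Subtype.ext h)

/-- the double coset representatives -/
def w (x : Fin 5 → P) : Fin 5 → P := fun i => (base x i)⁻¹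

theorem exact (i : Fin 5) : (S i).map D.φ = KK (HH x) (w x i) ∧ Nat.card ((S i).map D.φ) = nn i := by
  have hinj := injective_φ D hgen hcard
  refine Exact.exact (HH x) (w x) ?_ (fun i => (S i).map D.φ) ?_ ![1, 19530, 968750, 2034375, 5812500] nn ?_ ?_ ?_ i
  · intro g
    obtain ⟨i, hi, h1, hh1, h2, hh2, hg⟩ := D.double_cosets hgen g⁻¹
    refine ⟨⟨i, hi⟩, h2⁻¹, (HH x).inv_mem hh2, h1⁻¹, (HH x).inv_mem hh1, ?_⟩
    rw [← inv_inv g, hg, w]
    group
  · rintro i _ ⟨s, hs, rfl⟩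
    change D.φ s ∈ KK (HH x) (w x i)
    rw [mem_KK]
    refine ⟨?_, ?_⟩
    · rw [← D.range_φ]; exact ⟨s, rfl⟩
    · rw [w, inv_inv]
      exact conj_S' D i i.2 s hs
  · intro i
    rw [(card_HH D hgen hcard).1]
    fin_cases i <;> simp [nn]
  · intro i
    rw [← (Nat.card_congr ((S i).equivMapOfInjective D.φ hinj).toEquiv), card_S]
    fin_cases i
    · change 5859000000 ≤ Nat.card (Hsub 0)
      rw [Hsub_zero, T1.card_Hhat]
    · exact card_Hsub_one
    · exact card_Hsub_two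
    · exact card_Hsub_three
    · exact card_Hsub_four
  · rw [(card_HH D hgen hcard).2]
    simp [Fin.sum_univ_succ]


/-! ### Elements of `C_P(x)` -/

omit [Finite P] hgen hcard in
theorem com_word {v : List ℕ} (h : eqW (v ++ xw) (xw ++ v) = true) :
    ev (X4 x) v * ev (X4 x) xw = ev (X4 x) xw * ev (X4 x) v := by
  have h1 := D.wp _ _ h
  rwa [ev_append, ev_append] at h1

omit [Finite P] hgen hcard in
theorem com_z : x 4 * ev (X4 x) xw = ev (X4 x) xw * x 4 := by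
  have h1 := hKex x D.hx kx
  rw [D.wp _ _ w_kx, D.wp _ _ w_kx'] at h1
  exact h1.symm

/-- the elements `u i` -/
def u (x : Fin 5 → P) : Fin 5 → P := ![1, 1, 1, (ev (X4 x) v3)⁻¹, 1]

/-- the representatives in `C_P(x)` -/
def c (x : Fin 5 → P) : Fin 5 → P :=
  ![1, (x 4)⁻¹, (base x 2)⁻¹, (base x 2 * x 3 * x 4)⁻¹, (x 4 * ev (X4 x) h4 * x 4)⁻¹]

omit [Finite P] hgen hcard in
theorem hc (i : Fin 5) : ∃ h ∈ HH x, c x i = u x i * w x i * h := by
  match i with
  | 0 => exact ⟨1, (HH x).one_mem, by show (1 : P) = 1 * 1⁻¹ * 1; group⟩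
  | 1 => exact ⟨1, (HH x).one_mem, by show (x 4)⁻¹ = 1 * (x 4)⁻¹ * 1; group⟩
  | 2 => exact ⟨1, (HH x).one_mem, by show (base x 2)⁻¹ = 1 * (base x 2)⁻¹ * 1; group⟩
  | 3 =>
    have h1 : base x 2 * ev (X4 x) [3] * x 4 * (base x 3 * ev (X4 x) v3)⁻¹ ∈ HH x :=
      valid_all x D.hx D.wp _ edge_mem
    have h2 : ev (X4 x) [3] = x 3 := by simp [ev, letter]; rfl
    rw [h2] at h1
    refine ⟨(base x 2 * x 3 * x 4 * (base x 3 * ev (X4 x) v3)⁻¹)⁻¹, (HH x).inv_mem h1, ?_⟩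
    show (base x 2 * x 3 * x 4)⁻¹ = (ev (X4 x) v3)⁻¹ * (base x 3)⁻¹ *
      (base x 2 * x 3 * x 4 * (base x 3 * ev (X4 x) v3)⁻¹)⁻¹
    group
  | 4 =>
    have h1 := zkz x D.hx k4
    refine ⟨(x 4 * ev (X4 x) (ex tK k4) * (x 4)⁻¹)⁻¹, (HH x).inv_mem h1, ?_⟩
    show (x 4 * ev (X4 x) h4 * x 4)⁻¹ = 1 * (x 4 * ev (X4 x) [1, 3] * x 4)⁻¹ *
      (x 4 * ev (X4 x) (ex tK k4) * (x 4)⁻¹)⁻¹
    rw [D.wp _ _ w_h4', ev_append]
    group

omit [Finite P] hgen hcard in
theorem hcx (i : Fin 5) : c x i * ev (X4 x) xw = ev (X4 x) xw * c x i := by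
  have hz := com_z D
  have hd : x 3 * ev (X4 x) xw = ev (X4 x) xw * x 3 := by
    have h1 := com_word D w_d
    have h2 : ev (X4 x) [3] = x 3 := by simp [ev, letter]; rfl
    rwa [h2] at h1
  have hh := com_word D w_h4
  have cz : Commute (x 4) (ev (X4 x) xw) := hz
  have cd : Commute (x 3) (ev (X4 x) xw) := hd
  have ch : Commute (ev (X4 x) h4) (ev (X4 x) xw) := hh
  have cb : Commute (base x 2) (ev (X4 x) xw) := (cz.inv_left.mul_left cd.inv_left).mul_left cz.inv_left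
  match i with
  | 0 => exact (Commute.one_left _).eq
  | 1 => exact cz.inv_left.eq
  | 2 => exact cb.inv_left.eq
  | 3 => exact ((cb.mul_left cd).mul_left cz).inv_left.eq
  | 4 => exact ((cz.mul_left ch).mul_left cz).inv_left.eq

omit [Finite P] D hgen hcard in
theorem hu (i : Fin 5) : u x i ∈ HH x := by
  match i with
  | 0 => exact (HH x).one_mem
  | 1 => exact (HH x).one_mem
  | 2 => exact (HH x).one_mem
  | 3 => exact (HH x).inv_mem (ev_mem_HH x v3)
  | 4 => exact (HH x).one_mem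

omit [Finite P] hgen hcard in
theorem u_conj (i : Fin 5) : (u x i)⁻¹ * ev (X4 x) xw * u x i = D.φ (hw (sw i)) := by
  rw [D.φ_ev]
  match i with
  | 0 => show 1⁻¹ * ev (X4 x) xw * 1 = ev (X4 x) xw; group
  | 1 => show 1⁻¹ * ev (X4 x) xw * 1 = ev (X4 x) xw; group
  | 2 => show 1⁻¹ * ev (X4 x) xw * 1 = ev (X4 x) xw; group
  | 3 =>
    show (ev (X4 x) v3)⁻¹⁻¹ * ev (X4 x) xw * (ev (X4 x) v3)⁻¹ = ev (X4 x) (v3 ++ xw ++ invW v3)
    rw [ev_append, ev_append, ev_invW, inv_inv]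
  | 4 => show 1⁻¹ * ev (X4 x) xw * 1 = ev (X4 x) xw; group

theorem card_Hsub (i : Fin 5) : Nat.card (Hsub i) = nn i := by
  have h := (exact D hgen hcard i).2
  rw [← (Nat.card_congr ((S i).equivMapOfInjective D.φ (injective_φ D hgen hcard)).toEquiv), card_S] at h
  exact h

theorem hcls (i : Fin 5) (hi : i ≠ 0) (k : P) (hk : k ∈ KK (HH x) (w x i))
    (hg : ∃ g ∈ HH x, k = g * ev (X4 x) xw * g⁻¹) :
    ∃ m ∈ KK (HH x) (w x i), k = m * ((u x i)⁻¹ * ev (X4 x) xw * u x i) * m⁻¹ := by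
  have hinj := injective_φ D hgen hcard
  have he := (exact D hgen hcard i).1
  rw [← he] at hk ⊢
  obtain ⟨k', hk', rfl⟩ := hk
  obtain ⟨g, hgH, e⟩ := hg
  rw [← D.range_φ] at hgH
  obtain ⟨g', rfl⟩ := hgH
  rw [← D.φ_ev, ← map_inv, ← map_mul, ← map_mul] at e
  have e1 : k' = g' * hw xw * g'⁻¹ := hinj e
  have e2 : (k' : GL75) = (g' : GL75) * ev gen xw * (g' : GL75)⁻¹ := by
    rw [e1, Subgroup.coe_mul, Subgroup.coe_mul, Subgroup.coe_inv, coe_hw]
  have h3 : (k' : GL75) ^ 3 = 1 := by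
    rw [e2, conj_pow, x_cube, mul_one, mul_inv_cancel]
  have htr : Matrix.trace ((k' : GL75) : Matrix (Fin 7) (Fin 7) (ZMod 5)) = 3 := by
    rw [e2, trace_conj, trace_word tr_x]
    rfl
  have hi0 : (i : ℕ) ≠ 0 := fun h => hi (Fin.ext h)
  have hcl := (class_all i.2 hi0 (by rw [card_Hsub D hgen hcard, nn_getD])).1
  obtain ⟨m, hm, hkm⟩ := hcl k' hk' h3 htr
  have hmH : m ∈ Hhat := Hsub_le_Hhat i hm
  refine ⟨D.φ ⟨m, hmH⟩, ⟨⟨m, hmH⟩, hm, rfl⟩, ?_⟩
  have e3 : k' = (⟨m, hmH⟩ : Hhat) * hw (sw i) * (⟨m, hmH⟩ : Hhat)⁻¹ := by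
    apply Subtype.ext
    rw [Subgroup.coe_mul, Subgroup.coe_mul, Subgroup.coe_inv, coe_hw]
    exact hkm
  rw [u_conj D, ← map_inv, ← map_mul, ← map_mul]
  exact congrArg D.φ e3

theorem hcc (i : Fin 5) (hi : i ≠ 0) :
    Nat.card (centralizer ({(u x i)⁻¹ * ev (X4 x) xw * u x i} : Set P) ⊓ KK (HH x) (w x i) : Subgroup P) = cc i := by
  have hinj := injective_φ D hgen hcard
  have he := (exact D hgen hcard i).1
  have hi0 : (i : ℕ) ≠ 0 := fun h => hi (Fin.ext h)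
  rw [← he, u_conj D, card_cent_map D.φ hinj _ (Hsub_le_Hhat i), coe_hw,
    (class_all i.2 hi0 (by rw [card_Hsub D hgen hcard, nn_getD])).2, cc_getD]

omit [Finite P] hgen hcard in
theorem range_eq : ((Hhat : Subgroup GL75).subgroupOf Hhat).map D.φ = HH x := by
  rw [subgroupOf_self, ← MonoidHom.range_eq_map, D.range_φ]

omit [Finite P] hgen hcard in
theorem x_eq : ev (X4 x) xw = D.φ (hw xw) := (D.φ_ev xw).symm

theorem hA0 (hx : Nat.card A0 = 378000) :
    Nat.card (centralizer ({ev (X4 x) xw} : Set P) ⊓ HH x : Subgroup P) = 378000 := by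
  rw [x_eq D, ← range_eq D, card_cent_map D.φ (injective_φ D hgen hcard) Hhat le_rfl, coe_hw]
  exact hx

theorem hA2' (hx : Nat.card A0 = 378000) (X : Hhat) (hX : (X : GL75) = x7) (M : Subgroup P)
    (hM : M ≤ centralizer ({D.φ X} : Set P) ⊓ HH x) (hxM : D.φ X ∈ M)
    (hinv : ∀ a ∈ centralizer ({D.φ X} : Set P) ⊓ HH x, ∀ m ∈ M, a * m * a⁻¹ ∈ M) :
    M = zpowers (D.φ X) ∨ M = centralizer ({D.φ X} : Set P) ⊓ HH x := by
  have hinj := injective_φ D hgen hcard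
  -- membership in the centraliser
  have hcen : ∀ y : Hhat, (y : GL75) ∈ A0 ↔ D.φ y ∈ centralizer ({D.φ X} : Set P) ⊓ HH x := by
    intro y
    rw [mem_inf, mem_centralizer_singleton_iff, A0, mem_inf, mem_centralizer_singleton_iff, ← hX]
    constructor
    · rintro ⟨h1, -⟩
      refine ⟨?_, ?_⟩
      · have h2 : y * X = X * y := Subtype.ext (by rw [Subgroup.coe_mul, Subgroup.coe_mul]; exact h1)
        rw [← map_mul, ← map_mul, h2]
      · rw [← D.range_φ]; exact ⟨y, rfl⟩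
    · rintro ⟨h1, -⟩
      refine ⟨?_, y.2⟩
      rw [← map_mul, ← map_mul] at h1
      have h2 : y * X = X * y := hinj h1
      rw [← Subgroup.coe_mul, h2, Subgroup.coe_mul]
  have hMr : ∀ m ∈ M, ∃ y : Hhat, D.φ y = m := by
    intro m hm
    have h1 := (mem_inf.mp (hM hm)).2
    rw [← D.range_φ] at h1
    exact h1
  have hmemN : ∀ y : Hhat, (y : GL75) ∈ (M.comap D.φ).map Hhat.subtype ↔ D.φ y ∈ M := by
    intro y
    rw [mem_map]
    constructor
    · rintro ⟨y', hy', e⟩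
      have : y' = y := Subtype.ext e
      rw [← this]; exact hy'
    · intro h
      exact ⟨y, h, rfl⟩
  have hNH : ∀ g ∈ (M.comap D.φ).map Hhat.subtype, g ∈ Hhat := by
    intro g hg
    obtain ⟨y, -, rfl⟩ := mem_map.mp hg
    exact y.2
  have k1 : (M.comap D.φ).map Hhat.subtype ≤ A0 := by
    intro g hg
    have h1 := hNH g hg
    exact (hcen ⟨g, h1⟩).mpr (hM ((hmemN ⟨g, h1⟩).mp hg))
  have k2 : x7 ∈ (M.comap D.φ).map Hhat.subtype := by
    rw [← hX]
    exact (hmemN X).mpr hxM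
  have k3 : ∀ a ∈ A0, ∀ m ∈ (M.comap D.φ).map Hhat.subtype, a * m * a⁻¹ ∈ (M.comap D.φ).map Hhat.subtype := by
    intro a ha g hg
    obtain ⟨g', hg'⟩ : ∃ g' : Hhat, (g' : GL75) = g := ⟨⟨g, hNH g hg⟩, rfl⟩
    obtain ⟨a', ha'⟩ : ∃ a' : Hhat, (a' : GL75) = a := ⟨⟨a, (mem_inf.mp ha).2⟩, rfl⟩
    rw [← ha'] at ha ⊢
    rw [← hg'] at hg ⊢
    have h2 := hinv (D.φ a') ((hcen a').mp ha) (D.φ g') ((hmemN g').mp hg)
    rw [← map_inv, ← map_mul, ← map_mul] at h2
    have h3 := (hmemN (a' * g' * a'⁻¹)).mpr h2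
    rwa [Subgroup.coe_mul, Subgroup.coe_mul, Subgroup.coe_inv] at h3
  have key := normal_A0 hx ((M.comap D.φ).map Hhat.subtype) k1 k2 k3
  rcases key with h | h
  · left
    apply le_antisymm
    · intro m hm
      obtain ⟨y, rfl⟩ := hMr m hm
      have h1 : (y : GL75) ∈ zpowers x7 := by
        rw [← h]; exact (hmemN y).mpr hm
      obtain ⟨n, hn⟩ := mem_zpowers_iff.mp h1
      have h2 : X ^ n = y := Subtype.ext (by rw [Subgroup.coe_zpow, hX]; exact hn)
      rw [mem_zpowers_iff]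
      refine ⟨n, ?_⟩
      rw [← map_zpow, h2]
    · rw [zpowers_le]; exact hxM
  · right
    apply le_antisymm hM
    intro m hm
    have h1 := (mem_inf.mp hm).2
    rw [← D.range_φ] at h1
    obtain ⟨y, rfl⟩ := h1
    have h2 := (hcen y).mpr hm
    rw [← h] at h2
    exact (hmemN y).mp h2

theorem hA2 (hx : Nat.card A0 = 378000) (M : Subgroup P) (hM : M ≤ centralizer ({ev (X4 x) xw} : Set P) ⊓ HH x)
    (hxM : ev (X4 x) xw ∈ M)
    (hinv : ∀ a ∈ centralizer ({ev (X4 x) xw} : Set P) ⊓ HH x, ∀ m ∈ M, a * m * a⁻¹ ∈ M) :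
    M = zpowers (ev (X4 x) xw) ∨ M = centralizer ({ev (X4 x) xw} : Set P) ⊓ HH x := by
  rw [x_eq D] at hM hxM hinv ⊢
  exact hA2' D hgen hcard hx (hw xw) (coe_hw xw) M hM hxM hinv

theorem hab : ∃ g h : P, g ∈ centralizer ({ev (X4 x) xw} : Set P) ∧ h ∈ centralizer ({ev (X4 x) xw} : Set P) ∧
    g * h ≠ h * g := by
  have hinj := injective_φ D hgen hcard
  refine ⟨ev (X4 x) [3], ev (X4 x) [2, 5, 2, 1], ?_, ?_, ?_⟩
  · rw [mem_centralizer_singleton_iff]; exact com_word D w_d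
  · rw [mem_centralizer_singleton_iff]; exact com_word D w_cb
  · intro h
    rw [← ev_append, ← ev_append, ← D.φ_ev, ← D.φ_ev] at h
    have h1 := congrArg (fun y : Hhat => (y : GL75)) (hinj h)
    change ((hw _ : Hhat) : GL75) = ((hw _ : Hhat) : GL75) at h1
    rw [coe_hw, coe_hw] at h1
    have h2 := rep_evalW ([3] ++ [2, 5, 2, 1])
    rw [h1] at h2
    have h3 := h2.code (rep_evalW ([2, 5, 2, 1] ++ [3]))
    have h4 := w_ne
    have h5 : Nat.beq (evalW ([3] ++ [2, 5, 2, 1])) (evalW ([2, 5, 2, 1] ++ [3])) = false := h4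
    rw [h3, Nat.beq_refl] at h5
    exact absurd h5 (by simp)

theorem order_x' : orderOf (ev (X4 x) xw) = 3 := by
  rw [x_eq D, orderOf_injective D.φ (injective_φ D hgen hcard), ← orderOf_coe, coe_hw]
  exact order_x

/-- **The centraliser `3·McL`.** -/
theorem main (hx : Nat.card A0 ≤ 378000) :
    Nat.card (centralizer ({ev (X4 x) xw} : Set P)) = 2694384000 ∧
    Nat.card (center (centralizer ({ev (X4 x) xw} : Set P))) = 3 ∧
    Cfsg.IsMcL (centralizer ({ev (X4 x) xw} : Set P) ⧸ center (centralizer ({ev (X4 x) xw} : Set P))) := by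
  have hx' := card_A0 hx
  refine mcl_of_data (HH x) (ev (X4 x) xw) (ev_mem_HH x xw) (order_x' D hgen hcard) (w x) ?_ ?_ ?_ (u x) (c x)
    hu (hc D) (hcx D) (hcls D hgen hcard) (hcc D hgen hcard) (hA0 D hgen hcard hx') (hA2 D hgen hcard hx')
    (hab D hgen hcard)
  · show (base x 0)⁻¹ = 1
    exact inv_one
  · intro g
    obtain ⟨i, hi, h1, hh1, h2, hh2, hg⟩ := D.double_cosets hgen g⁻¹
    refine ⟨⟨i, hi⟩, h2⁻¹, (HH x).inv_mem hh2, h1⁻¹, (HH x).inv_mem hh1, ?_⟩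
    rw [← inv_inv g, hg, w]
    group
  · intro i
    obtain ⟨h1, h2⟩ := exact D hgen hcard i
    rw [← h1]; exact h2

end

end Cfsg.Agent.Ly.McL.Main
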