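import Cfsg.Agent.Ly.McL.Lists

/-!
# Data for the triple cover of McL in the Lyons group

Letters `0 1 2 3` = a b c d, `4 5 6 7` = their inverses. Generated by a program; everything is checked by the kernel.
-/

set_option autoImplicit false

namespace Cfsg.Agent.Ly.McL.Data

/-- the element `x` of order 3 -/
def xw : List ℕ := [0, 1, 4, 5]

/-- edge word -/
def v3 : List ℕ := [4, 1, 3, 6, 3, 6, 1, 3, 2, 3, 2, 1, 7, 2]

/-- generators of the Sylow subgroup `P2` of `C_H(x)` -/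
def p2 : List (List ℕ) := [[3], [5, 5, 0, 1, 1]]

/-- spanning tree -/
def tp2 : List (ℕ × ℕ) := [(0, 0), (1, 1), (1, 0), (2, 1), (2, 0), (3, 1), (3, 0), (4, 1), (4, 0), (5, 1), (4, 0), (5, 1), (5, 1), (5, 0), (6, 1)]

/-- generators of the Sylow subgroup `P3` of `C_H(x)` -/
def p3 : List (List ℕ) := [[3, 2, 5, 2, 1, 7, 5, 6, 1, 6], [5, 6, 1, 6, 7, 2, 5, 2, 5, 4, 1, 1]]

/-- spanning tree -/
def tp3 : List (ℕ × ℕ) := [(0, 0), (1, 1), (1, 0), (2, 1), (2, 0), (3, 1), (3, 1), (3, 0), (4, 1), (4, 0), (5, 1), (5, 0), (5, 0), (6, 1), (6, 0), (7, 1), (7, 0), (6, 1), (6, 1), (6, 0), (7, 1), (7, 0), (6, 1), (6, 1), (3, 1), (3, 1)]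

/-- generators of the Sylow subgroup `P5` of `C_H(x)` -/
def p5 : List (List ℕ) := [[2, 5, 2, 1], [0, 2, 5, 2, 1, 4]]

/-- spanning tree -/
def tp5 : List (ℕ × ℕ) := [(0, 0), (1, 1), (1, 0), (2, 1), (2, 0), (3, 1), (3, 0), (4, 1), (4, 0), (5, 1), (5, 0), (6, 1), (6, 0), (7, 1), (7, 0), (8, 1), (8, 0), (9, 1), (9, 0), (10, 1), (10, 0), (11, 1), (11, 0), (11, 0), (12, 1), (12, 0), (13, 1), (13, 0), (14, 1), (14, 1), (14, 0), (15, 1), (15, 0), (16, 1), (16, 0), (17, 1), (17, 0), (17, 0), (18, 1), (18, 0), (19, 1), (19, 0), (20, 1), (20, 0), (19, 0), (20, 1), (19, 1), (19, 1), (19, 0), (19, 0), (20, 1), (20, 0), (21, 1), (21, 0), (22, 1), (22, 0), (22, 0), (23, 1), (23, 0), (24, 1), (24, 0), (25, 1), (25, 0), (24, 0), (25, 1), (24, 1), (24, 1), (24, 0), (22, 1), (22, 1), (22, 1), (22, 1), (22, 0), (23, 1), (23, 0), (24, 1), (24, 0), (24, 0), (25, 1), (25, 0), (26, 1), (26,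 0), (27, 1), (27, 0), (26, 0), (27, 1), (26, 1), (26, 1), (26, 0), (24, 1), (24, 1), (24, 1), (24, 1), (20, 0), (20, 0), (21, 1), (21, 0), (22, 1), (22, 0), (23, 1), (23, 0), (22, 0), (23, 1), (22, 1), (22, 1), (22, 0), (20, 1), (20, 1), (20, 1), (20, 1), (16, 0), (15, 0), (16, 1), (15, 1), (15, 1), (15, 0), (13, 1), (13, 1), (13, 1), (13, 1), (7, 1), (7, 1), (7, 1), (7, 1)]

/-- factorisations of the generators of the Sylow subgroups in elements with 7th power in `⟨x⟩` -/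
def fac : List (List ℕ × List ℕ) := [([2, 5, 2, 1, 3, 2, 5, 2, 1], [5, 6, 1, 6, 7, 5, 6, 1, 6, 3]), ([2, 5, 2, 1, 7], [3, 5, 6, 1, 6, 5, 5, 0, 1, 1]), ([3, 5, 6, 1, 6], [2, 5, 2, 1, 2, 5, 2, 1, 7, 5, 6, 1, 6]), ([3, 5, 6, 1, 6], [2, 5, 2, 1, 7, 5, 6, 1, 6, 7, 2, 5, 2, 5, 4, 1, 1]), ([3, 0, 0, 5, 6, 1, 6, 3, 5, 6, 1, 6], [2, 5, 2, 1, 7, 2, 5, 2, 1, 4, 4, 7, 2, 5, 2, 1]), ([7, 2, 5, 2, 1], [5, 6, 1, 6, 3, 0, 2, 5, 2, 1, 4])]

/-- witness words (consecutive pairs) -/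
def wit : List (List ℕ) := [[5, 6, 1, 6], [2, 5, 2, 1, 3], [3, 5, 6, 1, 6], [0, 0, 5, 6, 1, 6], [3, 5, 6, 1, 6], [3, 2, 5, 2, 1], [2, 5, 2, 1, 3], [3, 2, 5, 2, 1], [3, 4, 4], [5, 6, 1, 6, 7], [3, 0, 0], [2, 5, 2, 1, 3], [2, 5, 2, 1], [3, 5, 6, 1, 6], [3, 5, 6, 1, 6], [2, 5, 2, 1, 3, 5, 6, 1, 6]]

/-- `s_1` as a word in the generators of `H_1` and their inverses -/
def si1 : List ℕ := [5, 14]

/-- an inverting element -/
def ti1 : List ℕ := [5]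

/-- generators of a Sylow 3-subgroup -/
def pi1 : List (List ℕ) := [[5, 14]]

/-- spanning tree -/
def tpi1 : List (ℕ × ℕ) := [(0, 0), (0, 0)]

/-- spanning tree of the class -/
def ci1 : List (ℕ × ℕ) := [(0, 0), (1, 1), (2, 2), (3, 3), (4, 5), (5, 7), (5, 0), (6, 1), (7, 3), (8, 5), (9, 6), (10, 7), (10, 1), (11, 2), (12, 5), (13, 6), (14, 7), (14, 2), (15, 3), (16, 5), (17, 6), (18, 7), (18, 3), (19, 5), (20, 7), (20, 1), (21, 2), (22, 3), (23, 7), (23, 0), (24, 1), (25, 3), (26, 6), (26, 1), (27, 3), (28, 5), (29, 6), (30, 7), (30, 1), (31, 5), (32, 6), (33, 7), (33, 3), (34, 5), (35, 7), (35, 3), (36, 7), (36, 1), (37, 2), (38, 3), (39, 5), (40, 7), (40, 1), (41, 3), (42, 5), (43, 6), (43, 2), (44, 5), (44, 2), (45, 7), (45, 7), (45, 7), (45, 0), (46, 3), (47, 5), (48, 6), (48, 3), (49, 7), (49, 3), (50, 7), (50, 3), (50, 1), (51, 5), (52, 7), (52, 0), (53, 6), (53,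 5), (53, 7), (53, 3), (54, 5), (55, 6), (55, 7), (55, 2), (56, 6), (56, 7), (56, 0), (57, 3), (58, 6), (58, 5), (59, 6), (59, 6), (59, 3), (60, 5), (61, 6), (61, 0), (62, 1), (63, 2), (64, 5), (64, 1), (65, 7), (64, 7), (63, 3), (64, 6), (63, 7), (63, 7), (63, 3), (64, 6), (63, 7), (63, 5), (63, 7), (63, 6), (60, 7), (60, 3), (61, 6), (61, 6), (61, 5), (62, 6), (62, 6), (62, 0), (63, 2), (64, 5), (61, 6), (61, 6), (61, 6), (59, 3), (60, 6), (60, 2), (61, 5), (54, 6), (54, 6), (54, 1), (55, 5), (54, 6), (54, 6), (54, 6), (54, 5), (54, 6), (52, 6), (52, 6), (52, 6), (52, 0), (53, 1), (54, 2), (55, 5), (54, 0), (55, 5), (55, 2), (56, 5), (57, 7), (56, 6), (56, 5), (56, 5), (56, 5), (57, 7), (57, 2), (58, 5), (58, 1), (59, 3), (55, 5), (55, 6), (55, 6), (54, 5), (54, 6), (53, 6), (53, 1), (54, 5), (52, 5), (50, 5), (50, 5), (50, 5), (50, 5), (50, 1), (51, 7), (51, 5), (51, 5),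 (51, 5), (50, 5), (50, 5), (50, 3), (51, 7), (47, 5), (46, 5), (46, 1), (46, 5), (45, 5), (45, 5), (45, 5), (45, 5), (45, 5), (45, 3), (45, 5), (43, 7), (43, 5), (40, 7), (40, 5), (40, 5), (37, 7), (37, 5), (37, 5)]

/-- `s_2` as a word in the generators of `H_2` and their inverses -/
def si2 : List ℕ := [0, 1, 1, 2, 3, 2, 1, 1, 0, 3]

/-- an inverting element -/
def ti2 : List ℕ := [1]

/-- generators of a Sylow 3-subgroup -/
def pi2 : List (List ℕ) := [[0, 1, 1, 2, 3, 2, 1, 1, 0, 3], [0, 1, 2, 1, 1, 1, 2], [1, 0, 1, 0, 1, 0, 1, 1]]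

/-- spanning tree -/
def tpi2 : List (ℕ × ℕ) := [(0, 0), (1, 1), (2, 2), (2, 0), (3, 1), (4, 2), (4, 1), (5, 2), (5, 1), (6, 2), (6, 1), (7, 2), (7, 1), (8, 2), (8, 2), (8, 2), (8, 1), (9, 2), (9, 1), (10, 2), (10, 1), (10, 1), (10, 2), (7, 2), (7, 2), (7, 1)]

/-- spanning tree of the class -/
def ci2 : List (ℕ × ℕ) := [(0, 0), (1, 1), (1, 0), (2, 1), (2, 0), (2, 1), (2, 0), (3, 1), (3, 0), (4, 1), (4, 0), (5, 1), (5, 0), (5, 0), (6, 1), (6, 1), (6, 0), (7, 1), (7, 0), (8, 1), (8, 0), (9, 1), (9, 1), (9, 0), (9, 0), (10, 1), (10, 0), (11, 1), (10, 0), (11, 1), (11, 1), (11, 0), (12, 1), (12, 0), (13, 1), (13, 1), (13, 0), (14, 1), (14, 1), (14, 0), (14, 1), (14, 0), (15, 1), (15, 0), (14, 0), (15, 1), (13, 0), (14, 1), (14, 1), (11, 0), (7, 1), (7, 0), (7, 0), (7, 1), (5, 0)]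

/-- `s_3` as a word in the generators of `H_3` and their inverses -/
def si3 : List ℕ := [3, 2, 3, 0, 3, 2, 1, 1]

/-- an inverting element -/
def ti3 : List ℕ := [0]

/-- generators of a Sylow 3-subgroup -/
def pi3 : List (List ℕ) := [[3, 2, 3, 0, 3, 2, 1, 1], [0, 1, 0, 3]]

/-- spanning tree -/
def tpi3 : List (ℕ × ℕ) := [(0, 0), (1, 1), (1, 0), (2, 1), (2, 1), (2, 1), (2, 1), (1, 1)]

/-- spanning tree of the class -/
def ci3 : List (ℕ × ℕ) := [(0, 0), (1, 1), (1, 1), (1, 0), (2, 1), (2, 0), (3, 1), (3, 1), (3, 0), (4, 1), (4, 1), (4, 0), (5, 1), (4, 1), (2, 1), (1, 0), (1, 0), (1, 1), (1, 1)]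

/-- `s_4` as a word in the generators of `H_4` and their inverses -/
def si4 : List ℕ := [1, 1, 2, 1]

/-- an inverting element -/
def ti4 : List ℕ := [1]

/-- generators of a Sylow 3-subgroup -/
def pi4 : List (List ℕ) := [[1, 1, 2, 1], [0, 1, 1]]

/-- spanning tree -/
def tpi4 : List (ℕ × ℕ) := [(0, 0), (1, 1), (1, 0), (2, 1), (2, 1), (2, 1), (2, 1), (1, 1)]

/-- spanning tree of the class -/
def ci4 : List (ℕ × ℕ) := [(0, 1)]

/-- an element of `C_H(x)` in `K₀ b d` -/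
def h4 : List ℕ := [3, 2, 5, 2, 1, 3, 4, 4, 2, 5, 2, 1, 3, 2, 5, 2, 1, 3, 5, 6, 1, 6]

/-- its factor in `K₀` -/
def k4 : List ℕ := [10, 12, 14, 6, 13, 7, 10]

/-- `x` as an element of `K₀` -/
def kx : List ℕ := [10, 13]

end Cfsg.Agent.Ly.McL.Data
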