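import Mathlib.GroupTheory.Sylow
import Mathlib.Tactic

/-!
# Sylow arguments for `SU₃(5)` and the two-point stabilisers
-/

set_option autoImplicit false

namespace Cfsg.Agent.Ly.McL.Normal

open Subgroup

open scoped Pointwise in
/-- A `p`-subgroup is conjugate into a subgroup of the order of the Sylow subgroups. -/
theorem exists_conj_le {A : Type*} [Group A] [Finite A] {p : ℕ} [hp : Fact p.Prime] (P : Subgroup A) (n r : ℕ)
    (hP : Nat.card P = p ^ n) (hA : Nat.card A = p ^ n * r) (hr : ¬ p ∣ r) (Q : Subgroup A) (hQ : IsPGroup p Q) :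
    ∃ g : A, ∀ q ∈ Q, g * q * g⁻¹ ∈ P := by
  have hf : (Nat.card A).factorization p = n := by
    have hr0 : r ≠ 0 := by rintro rfl; exact hr (dvd_zero p)
    rw [hA, Nat.factorization_mul (pow_ne_zero _ hp.out.ne_zero) hr0, Finsupp.add_apply,
      Nat.factorization_pow, Finsupp.smul_apply, hp.out.factorization_self, smul_eq_mul, mul_one,
      Nat.factorization_eq_zero_of_not_dvd hr, add_zero]
  let P' : Sylow p A := Sylow.ofCard P (by rw [hP, hf])
  obtain ⟨Q', hQ'⟩ := hQ.exists_le_sylow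
  obtain ⟨g, hg⟩ := MulAction.exists_smul_eq A Q' P'
  refine ⟨g, fun q hq => ?_⟩
  have h1 : MulAut.conj g • q ∈ MulAut.conj g • (Q' : Subgroup A) :=
    Subgroup.smul_mem_pointwise_smul q (MulAut.conj g) (Q' : Subgroup A) (hQ' hq)
  have h2 : ((g • Q' : Sylow p A) : Subgroup A) = MulAut.conj g • (Q' : Subgroup A) := rfl
  rw [← h2, hg] at h1
  exact h1

/-- Normal subgroups of `SU₃(5)`. -/
theorem normal_dichotomy {A : Type*} [Group A] [Finite A] (hA : Nat.card A = 378000) (Z : Subgroup A)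
    (hZ : Nat.card Z = 3) (P2 P3 P5 : Subgroup A) (h2 : Nat.card P2 = 16) (h3 : Nat.card P3 = 27)
    (h5 : Nat.card P5 = 125)
    (hwit : ∀ m, (m ∈ P2 ∨ m ∈ P3 ∨ m ∈ P5) → m ∉ Z → ∀ M : Subgroup A, M.Normal → m ∈ M →
      ∃ y ∈ M, orderOf y = 7)
    (hgen : ∀ M : Subgroup A, M.Normal → Z ≤ M → (∀ y : A, orderOf y = 7 → y ∈ M) → P2 ≤ M ∧ P3 ≤ M ∧ P5 ≤ M)
    (M : Subgroup A) (hM : M.Normal) (hZM : Z ≤ M) : M = Z ∨ M = ⊤ := by
  have p2 : Fact (Nat.Prime 2) := ⟨by norm_num⟩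
  have p3 : Fact (Nat.Prime 3) := ⟨by norm_num⟩
  have p5 : Fact (Nat.Prime 5) := ⟨by norm_num⟩
  have p7 : Fact (Nat.Prime 7) := ⟨by norm_num⟩
  -- an element of order 7 is enough
  have key : (∃ y ∈ M, orderOf y = 7) → M = ⊤ := by
    rintro ⟨y, hy, hy7⟩
    have hyc : Nat.card (zpowers y) = 7 ^ 1 := by rw [Nat.card_zpowers, hy7, pow_one]
    have hall : ∀ s : A, orderOf s = 7 → s ∈ M := by
      intro s hs
      obtain ⟨g, hg⟩ := exists_conj_le (p := 7) (zpowers y) 1 54000 hyc (by rw [hA]; norm_num) (by norm_num)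
        (zpowers s) (IsPGroup.of_card (n := 1) (by rw [Nat.card_zpowers, hs, pow_one]))
      have h1 : g * s * g⁻¹ ∈ M := (zpowers_le.mpr hy) (hg s (mem_zpowers s))
      have h2 := hM.conj_mem _ h1 g⁻¹
      have e : g⁻¹ * (g * s * g⁻¹) * g⁻¹⁻¹ = s := by group
      rwa [e] at h2
    obtain ⟨m2, m3, m5⟩ := hgen M hM hZM hall
    have d2 : 16 ∣ Nat.card M := by rw [← h2]; exact card_dvd_of_le m2
    have d3 : 27 ∣ Nat.card M := by rw [← h3]; exact card_dvd_of_le m3
    have d5 : 125 ∣ Nat.card M := by rw [← h5]; exact card_dvd_of_le m5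
    have d7 : 7 ∣ Nat.card M := by
      have := Subgroup.orderOf_dvd_natCard M hy
      rwa [hy7] at this
    apply eq_top_of_card_eq
    apply Nat.dvd_antisymm (card_subgroup_dvd_card M)
    rw [hA]
    have e1 : 16 * 27 ∣ Nat.card M := Nat.Coprime.mul_dvd_of_dvd_of_dvd (by norm_num) d2 d3
    have e2 : 16 * 27 * 125 ∣ Nat.card M := Nat.Coprime.mul_dvd_of_dvd_of_dvd (by norm_num) e1 d5
    have e3 : 16 * 27 * 125 * 7 ∣ Nat.card M := Nat.Coprime.mul_dvd_of_dvd_of_dvd (by norm_num) e2 d7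
    exact e3
  by_cases h7 : ∃ y ∈ M, orderOf y = 7
  · exact Or.inr (key h7)
  left
  -- primes not dividing the order
  have hno : ∀ p : ℕ, Fact p.Prime → ∀ (P : Subgroup A) (n r : ℕ), Nat.card P = p ^ n → Nat.card A = p ^ n * r →
      ¬ p ∣ r → (∀ m ∈ P, m ∈ P2 ∨ m ∈ P3 ∨ m ∈ P5) → ¬ p ∣ 3 → ¬ p ∣ Nat.card M := by
    intro p hp P n r hP hAr hr hPP hp3 hdvd
    obtain ⟨t, ht⟩ := exists_prime_orderOf_dvd_card' (G := M) p hdvd
    have ht' : orderOf (t : A) = p := by rw [orderOf_coe]; exact ht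
    obtain ⟨g, hg⟩ := exists_conj_le P n r hP hAr hr (zpowers (t : A))
      (IsPGroup.of_card (n := 1) (by rw [Nat.card_zpowers, ht', pow_one]))
    have h1 := hg t (mem_zpowers _)
    have h2 : g * t * g⁻¹ ∈ M := hM.conj_mem _ t.2 g
    have h3 : g * t * g⁻¹ ∉ Z := by
      intro h
      have h4 := Subgroup.orderOf_dvd_natCard Z h
      have h5 : orderOf (g * (t : A) * g⁻¹) = p := by
        rw [← ht']
        exact (MulAut.conj g).orderOf_eq (t : A)
      rw [hZ, h5] at h4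
      exact hp3 h4
    exact h7 (hwit _ (hPP _ h1) h3 M hM h2)
  have n2 : ¬ 2 ∣ Nat.card M := hno 2 p2 P2 4 23625 (by rw [h2]; norm_num) (by rw [hA]; norm_num) (by norm_num)
    (fun m hm => Or.inl hm) (by norm_num)
  have n5 : ¬ 5 ∣ Nat.card M := hno 5 p5 P5 3 3024 (by rw [h5]; norm_num) (by rw [hA]; norm_num) (by norm_num)
    (fun m hm => Or.inr (Or.inr hm)) (by norm_num)
  have n7 : ¬ 7 ∣ Nat.card M := by
    intro hdvd
    obtain ⟨t, ht⟩ := exists_prime_orderOf_dvd_card' (G := M) 7 hdvd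
    exact h7 ⟨t, t.2, by rw [orderOf_coe]; exact ht⟩
  have n9 : ¬ 9 ∣ Nat.card M := by
    intro hdvd
    obtain ⟨Q, hQ⟩ := Sylow.exists_subgroup_card_pow_prime (G := M) 3 (n := 2) (by norm_num; exact hdvd)
    have hQ' : Nat.card (Q.map M.subtype) = 3 ^ 2 := by
      rw [← hQ]
      exact (Nat.card_congr (Q.equivMapOfInjective _ M.subtype_injective).toEquiv).symm
    obtain ⟨g, hg⟩ := exists_conj_le (p := 3) P3 3 14000 (by rw [h3]; norm_num) (by rw [hA]; norm_num)
      (by norm_num) (Q.map M.subtype) (IsPGroup.of_card hQ')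
    have hQM : ∀ q ∈ Q.map M.subtype, q ∈ M := by
      rintro _ ⟨q, _, rfl⟩
      exact q.2
    have hQZ : ∀ q ∈ Q.map M.subtype, g * q * g⁻¹ ∈ Z := by
      intro q hq
      by_contra h
      exact h7 (hwit _ (Or.inr (Or.inl (hg q hq))) h M hM (hM.conj_mem _ (hQM q hq) g))
    have h1 : Nat.card (Q.map M.subtype) ≤ Nat.card Z := by
      refine Nat.card_le_card_of_injective (fun q : Q.map M.subtype => (⟨g * q * g⁻¹, hQZ q q.2⟩ : Z)) ?_
      intro q q' h
      have h2 := congrArg Subtype.val h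
      exact Subtype.ext (mul_left_cancel (mul_right_cancel h2))
    rw [hQ', hZ] at h1
    norm_num at h1
  -- the order of M is 3
  have hdvd : Nat.card M ∣ 378000 := by rw [← hA]; exact card_subgroup_dvd_card M
  have hc2 : Nat.Coprime (Nat.card M) 16 := by
    have : Nat.Coprime (Nat.card M) 2 := ((Nat.Prime.coprime_iff_not_dvd Nat.prime_two).mpr n2).symm
    exact (Nat.Coprime.pow_right 4 this)
  have hc5 : Nat.Coprime (Nat.card M) 125 := by
    have : Nat.Coprime (Nat.card M) 5 := ((Nat.Prime.coprime_iff_not_dvd (by norm_num)).mpr n5).symm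
    exact (Nat.Coprime.pow_right 3 this)
  have hc7 : Nat.Coprime (Nat.card M) 7 := ((Nat.Prime.coprime_iff_not_dvd (by norm_num)).mpr n7).symm
  have h27 : Nat.card M ∣ 27 := by
    have e : 378000 = 27 * 16 * 125 * 7 := by norm_num
    rw [e] at hdvd
    exact Nat.Coprime.dvd_of_dvd_mul_right hc2 (Nat.Coprime.dvd_of_dvd_mul_right hc5
      (Nat.Coprime.dvd_of_dvd_mul_right hc7 hdvd))
  have hle3 : Nat.card M ≤ 3 := by
    have h27' : Nat.card M ∣ 3 ^ 3 := by norm_num; exact h27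
    obtain ⟨k, hk, hk'⟩ := (Nat.dvd_prime_pow Nat.prime_three).mp h27'
    rw [hk'] at n9 ⊢
    interval_cases k
    · norm_num
    · norm_num
    · norm_num at n9
    · norm_num at n9
  symm
  apply Subgroup.eq_of_le_of_card_ge hZM
  rw [hZ]
  exact hle3

end Cfsg.Agent.Ly.McL.Normal
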