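import Cfsg.Agent.Ly.McL.Lists
import Cfsg.Agent.Ly.McL.Data
import Cfsg.Agent.Ly.McL.Normal
import Cfsg.Agent.Ly.Walk

/-!
# Kernel checks in `G₂(5)` for the triple cover of McL
-/

set_option autoImplicit false

namespace Cfsg.Agent.Ly.McL.Checks

open Cfsg.Agent.Lib.PackMat Cfsg.Agent.Ly.Mat7 Cfsg.Agent.Ly.CoverCore Cfsg.Agent.Ly.Cover Cfsg.Agent.Ly.CoverData
open Cfsg.Agent.Ly.McL.Lists Cfsg.Agent.Ly.McL.Data Cfsg.Agent.Ly.Walk

/-! ### Witnesses for elements of order 7 -/

/-- `Y ^ 3 ≠ 1`, `Y ^ 21 = 1` -/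
noncomputable def is7 (Y : ℕ) : Bool :=
  force (mulN Y Y) fun Y2 => force (mulN Y2 Y) fun Y3 =>
  bif Nat.beq Y3 oneN then false else
  force (mulN Y3 Y3) fun Y6 => force (mulN Y6 Y3) fun Y9 => force (mulN Y9 Y9) fun Y18 =>
  Nat.beq (mulN Y18 Y3) oneN

/-- try the witnesses -/
noncomputable def witB (X : ℕ) : List (ℕ × ℕ) → Bool
  | g :: h :: l => force (mulF (step g X) (step h X)) fun u => force (mulN u X) fun y =>
      bif is7 y then true else witB X l
  | _ => false

/-- check of a Sylow subgroup of `C_H(x)` -/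
noncomputable def chkA (ws : List (List ℕ)) (tree : List (ℕ × ℕ)) : Bool :=
  mkC (fun w => evalW (invW w)) wit fun gs => force (evalW xw) fun a => force (evalW (invW xw)) fun b =>
    chk1 ws tree fun X => bif memB X [oneN, a, b] then true else witB X gs

theorem chk_p2 : chkA p2 tp2 = true := by decide +kernel
theorem chk_p3 : chkA p3 tp3 = true := by decide +kernel
theorem chk_p5 : chkA p5 tp5 = true := by decide +kernel

/-- the words commute with `x` -/
noncomputable def comB (ws : List (List ℕ)) : Bool := allL (fun w => eqW (w ++ xw) (xw ++ w)) ws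

theorem com_wit : comB wit = true := by decide +kernel
theorem com_p : comB (p2 ++ p3 ++ p5) = true := by decide +kernel
theorem com_fac : comB (fac.map Prod.fst) = true := by decide +kernel

/-- 7th power in `⟨x⟩` -/
noncomputable def sevB (w : List ℕ) : Bool :=
  memB (evalW (w ++ w ++ w ++ w ++ w ++ w ++ w)) [oneN, evalW xw, evalW (invW xw)]

/-- the factorisations -/
noncomputable def facB : List (List ℕ) → List (List ℕ × List ℕ) → Bool
  | [], _ => true
  | _ :: _, [] => false
  | w :: ws, (s, t) :: l => bif eqW w (s ++ t) then bif sevB s then bif sevB t then facB ws l else false else false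
      else false

theorem chk_fac : facB (p2 ++ p3 ++ p5) fac = true := by decide +kernel

theorem x3 : eqW (xw ++ xw ++ xw) [] = true := by decide +kernel
theorem x1 : eqW xw [] = false := by decide +kernel

/-! ### Stabilisers -/

/-- words of the generators of `H_i` and their inverses -/
def HgI (i : ℕ) : List (List ℕ) := Hgens i ++ (Hgens i).map invW

/-- sum of the diagonal entries modulo 5 -/
def trN (X : ℕ) : ℕ :=
  Nat.mod (Nat.add (Nat.land X 65535) (Nat.add (Nat.land (Nat.shiftRight X 128) 65535)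
    (Nat.add (Nat.land (Nat.shiftRight X 256) 65535) (Nat.add (Nat.land (Nat.shiftRight X 384) 65535)
    (Nat.add (Nat.land (Nat.shiftRight X 512) 65535) (Nat.add (Nat.land (Nat.shiftRight X 640) 65535)
    (Nat.land (Nat.shiftRight X 768) 65535))))))) 5

/-- check of a Sylow 3-subgroup of `H_i`: the elements of trace 3 are `s, s⁻¹` -/
noncomputable def chkP (i : ℕ) (si : List ℕ) (pi : List (List ℕ)) (tree : List (ℕ × ℕ)) : Bool :=
  force (evalW (ex (HgI i) si)) fun a => force (evalW (invW (ex (HgI i) si))) fun b =>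
    chk1 (pi.map (ex (HgI i))) tree fun X => bif Nat.beq (trN X) 3 then memB X [a, b] else true

theorem chk_pi1 : chkP 1 si1 pi1 tpi1 = true := by decide +kernel
theorem chk_pi2 : chkP 2 si2 pi2 tpi2 = true := by decide +kernel
theorem chk_pi3 : chkP 3 si3 pi3 tpi3 = true := by decide +kernel
theorem chk_pi4 : chkP 4 si4 pi4 tpi4 = true := by decide +kernel

theorem chk_ti1 : eqW (ex (HgI 1) ti1 ++ ex (HgI 1) si1) (invW (ex (HgI 1) si1) ++ ex (HgI 1) ti1) = true := by
  decide +kernel
theorem chk_ti2 : eqW (ex (HgI 2) ti2 ++ ex (HgI 2) si2) (invW (ex (HgI 2) si2) ++ ex (HgI 2) ti2) = true := by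
  decide +kernel
theorem chk_ti3 : eqW (ex (HgI 3) ti3 ++ ex (HgI 3) si3) (invW (ex (HgI 3) si3) ++ ex (HgI 3) ti3) = true := by
  decide +kernel
theorem chk_ti4 : eqW (ex (HgI 4) ti4 ++ ex (HgI 4) si4) (invW (ex (HgI 4) si4) ++ ex (HgI 4) ti4) = true := by
  decide +kernel

theorem chk_s1 : eqW (ex (HgI 1) si1) xw = true := by decide +kernel
theorem chk_s2 : eqW (ex (HgI 2) si2) xw = true := by decide +kernel
theorem chk_s3 : eqW (ex (HgI 3) si3) (v3 ++ xw ++ invW v3) = true := by decide +kernel
theorem chk_s4 : eqW (ex (HgI 4) si4) xw = true := by decide +kernel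

theorem chk_c1 : chk2 (Hgens 1) (ex (HgI 1) si1) ci1 = true := by decide +kernel
theorem chk_c2 : chk2 (Hgens 2) (ex (HgI 2) si2) ci2 = true := by decide +kernel
theorem chk_c3 : chk2 (Hgens 3) (ex (HgI 3) si3) ci3 = true := by decide +kernel
theorem chk_c4 : chk2 (Hgens 4) (ex (HgI 4) si4) ci4 = true := by decide +kernel

end Cfsg.Agent.Ly.McL.Checks
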