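import Cfsg.Agent.Ly.Cover

/-!
# Groups and conjugacy classes of 7 × 7 matrices given by lists, certified in the kernel

* `group_list`: the order of the group generated by some words and a property of the codes of all its elements;
* `class_list`: the size of the class of a word under the group generated by some words.
-/

set_option autoImplicit false

namespace Cfsg.Agent.Ly.McL.Lists

open Cfsg.Agent.Lib.PackMat Cfsg.Agent.Ly.Mat7 Cfsg.Agent.Ly.CoverCore Cfsg.Agent.Ly.Cover

/-- entry of a list, with default -/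
def nthD (d : ℕ) : List ℕ → ℕ → ℕ
  | [], _ => d
  | a :: _, 0 => a
  | _ :: l, n + 1 => nthD d l n

theorem nthD_mem (d : ℕ) (l : List ℕ) : ∀ n, nthD d l n = d ∨ nthD d l n ∈ l := by
  induction l with
  | nil => intro n; left; rfl
  | cons a l ih =>
    intro n
    cases n with
    | zero => right; exact List.mem_cons_self
    | succ n =>
      rcases ih n with h | h
      · left; exact h
      · right; exact List.mem_cons_of_mem _ h

/-- entry of a list of pairs -/
def nthG : List (ℕ × ℕ) → ℕ → ℕ × ℕ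
  | [], _ => (oneN, oneN)
  | a :: _, 0 => a
  | _ :: l, n + 1 => nthG l n

theorem nthG_mem (l : List (ℕ × ℕ)) : ∀ n, nthG l n = (oneN, oneN) ∨ nthG l n ∈ l := by
  induction l with
  | nil => intro n; left; rfl
  | cons a l ih =>
    intro n
    cases n with
    | zero => right; exact List.mem_cons_self
    | succ n =>
      rcases ih n with h | h
      · left; exact h
      · right; exact List.mem_cons_of_mem _ h

/-- generators as pairs of codes -/
noncomputable def mkC (f : List ℕ → ℕ) : List (List ℕ) → (List (ℕ × ℕ) → Bool) → Bool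
  | [], k => k []
  | w :: ws, k => force (evalW w) fun g => force (f w) fun g' => mkC f ws fun l => k ((g, g') :: l)

theorem mkC_eq (f : List ℕ → ℕ) (ws : List (List ℕ)) :
    ∀ k, mkC f ws k = k (ws.map fun w => (evalW w, f w)) := by
  induction ws with
  | nil => intro k; rfl
  | cons w ws ih =>
    intro k
    rw [mkC, force_eq, force_eq, ih, List.map_cons]

/-- one step `y ↦ g y g'` -/
noncomputable def step (p : ℕ × ℕ) (X : ℕ) : ℕ := mulF (mulF p.1 X) p.2

/-- the list of codes obtained from a tree -/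
noncomputable def build (gs : List (ℕ × ℕ)) (d : ℕ) : List (ℕ × ℕ) → List ℕ → List ℕ
  | [], acc => acc
  | (k, j) :: l, acc => build gs d l (step (nthG gs j) (nthD d acc k) :: acc)

/-- the same with a continuation -/
noncomputable def buildC (gs : List (ℕ × ℕ)) (d : ℕ) : List (ℕ × ℕ) → List ℕ → (List ℕ → Bool) → Bool
  | [], acc, f => f acc
  | (k, j) :: l, acc, f =>
    force (nthD d acc k) fun t => force (step (nthG gs j) t) fun y => buildC gs d l (y :: acc) f

theorem buildC_eq (gs : List (ℕ × ℕ)) (d : ℕ) (l : List (ℕ × ℕ)) :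
    ∀ acc f, buildC gs d l acc f = f (build gs d l acc) := by
  induction l with
  | nil => intro acc f; rfl
  | cons a l ih =>
    intro acc f
    obtain ⟨k, j⟩ := a
    rw [buildC, force_eq, force_eq, ih, build]

theorem build_length (gs : List (ℕ × ℕ)) (d : ℕ) (l : List (ℕ × ℕ)) :
    ∀ acc, (build gs d l acc).length = l.length + acc.length := by
  induction l with
  | nil => intro acc; simp [build]
  | cons a l ih =>
    intro acc
    obtain ⟨k, j⟩ := a
    rw [build, ih, List.length_cons, List.length_cons]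
    omega

theorem build_sub (gs : List (ℕ × ℕ)) (d : ℕ) (l : List (ℕ × ℕ)) :
    ∀ acc, ∀ t ∈ acc, t ∈ build gs d l acc := by
  induction l with
  | nil => intro acc t ht; exact ht
  | cons a l ih =>
    intro acc t ht
    obtain ⟨k, j⟩ := a
    rw [build]
    exact ih _ t (List.mem_cons_of_mem _ ht)

/-- membership -/
def memB (y : ℕ) : List ℕ → Bool
  | [] => false
  | a :: l => bif Nat.beq y a then true else memB y l

theorem memB_iff (y : ℕ) (l : List ℕ) : memB y l = true ↔ y ∈ l := by
  induction l with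
  | nil => simp [memB]
  | cons a l ih =>
    rw [memB, List.mem_cons]
    cases h : Nat.beq y a with
    | true =>
      have := Nat.eq_of_beq_eq_true h
      simp [this]
    | false =>
      have h1 : y ≠ a := by
        rintro rfl
        rw [Nat.beq_refl] at h
        exact absurd h (by simp)
      rw [cond_false, ih]
      simp [h1]

/-- no duplicates -/
def nodupB : List ℕ → Bool
  | [] => true
  | a :: l => bif memB a l then false else nodupB l

theorem nodupB_spec {l : List ℕ} (h : nodupB l = true) : l.Nodup := by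
  induction l with
  | nil => exact List.nodup_nil
  | cons a l ih =>
    rw [nodupB] at h
    cases hb : memB a l with
    | true => rw [hb] at h; simp at h
    | false =>
      rw [hb, cond_false] at h
      rw [List.nodup_cons]
      refine ⟨?_, ih h⟩
      intro hm
      rw [(memB_iff a l).mpr hm] at hb
      exact absurd hb (by simp)

/-- all elements have a property -/
def allL {α : Type} (f : α → Bool) : List α → Bool
  | [] => true
  | a :: l => bif f a then allL f l else false

theorem allL_spec {α : Type} {f : α → Bool} {l : List α} (h : allL f l = true) : ∀ a ∈ l, f a = true := by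
  induction l with
  | nil => intro a ha; simp at ha
  | cons b l ih =>
    rw [allL] at h
    cases hb : f b with
    | false => rw [hb] at h; simp at h
    | true =>
      rw [hb, cond_true] at h
      intro a ha
      rcases List.mem_cons.mp ha with rfl | ha
      · exact hb
      · exact ih h a ha

/-- closed under the steps -/
noncomputable def closedB (gs : List (ℕ × ℕ)) (T : List ℕ) : Bool :=
  allL (fun g => allL (fun t => force (step g t) fun y => memB y T) T) gs

/-- The elements with codes in a list. -/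
def TS (T : List ℕ) : Set GL75 := {y | ∃ t ∈ T, Rep t y}

theorem card_TS {T : List ℕ} (hT : ∀ t ∈ T, ∃ y, Rep t y) (hnd : T.Nodup) :
    (TS T).Finite ∧ Nat.card (TS T) = T.length := by
  classical
  choose! f hf using hT
  have h1 : TS T = ((T.toFinset.image f : Finset GL75) : Set GL75) := by
    ext y
    simp only [TS, Set.mem_ofPred_eq, Finset.coe_image, List.coe_toFinset, Set.mem_image]
    constructor
    · rintro ⟨t, ht, hty⟩
      exact ⟨t, ht, (hf t ht).inj hty⟩
    · rintro ⟨t, ht, rfl⟩
      exact ⟨t, ht, hf t ht⟩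
  rw [h1]
  refine ⟨Finset.finite_toSet _, ?_⟩
  rw [Nat.card_coe_set_eq, Set.ncard_coe_finset, Finset.card_image_of_injOn, List.toFinset_card_of_nodup hnd]
  intro s hs t ht hst
  have hs' : s ∈ T := by simpa using hs
  have ht' : t ∈ T := by simpa using ht
  have h2 := hf t ht'
  rw [← hst] at h2
  exact (hf s hs').code h2

/-- the value of a pair -/
def RepP (p : ℕ × ℕ) (q : GL75 × GL75) : Prop := Rep p.1 q.1 ∧ Rep p.2 q.2

theorem step_rep {p : ℕ × ℕ} {q : GL75 × GL75} (h : RepP p q) {X : ℕ} {y : GL75} (hX : Rep X y) :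
    Rep (step p X) (q.1 * y * q.2) := by
  rw [step]
  exact (h.1.mul hX).mul h.2

theorem build_in {gs : List (ℕ × ℕ)} {S : Set GL75}
    (hgs : ∀ p ∈ gs, ∃ q, RepP p q ∧ ∀ y ∈ S, q.1 * y * q.2 ∈ S) {d : ℕ} (hd : ∃ y ∈ S, Rep d y)
    (l : List (ℕ × ℕ)) : ∀ acc, (∀ t ∈ acc, ∃ y ∈ S, Rep t y) → ∀ t ∈ build gs d l acc, ∃ y ∈ S, Rep t y := by
  induction l with
  | nil => intro acc hacc; exact hacc
  | cons a l ih =>
    intro acc hacc
    obtain ⟨k, j⟩ := a
    rw [build]
    apply ih
    intro t ht
    rcases List.mem_cons.mp ht with rfl | ht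
    · obtain ⟨y, hy, hyr⟩ : ∃ y ∈ S, Rep (nthD d acc k) y := by
        rcases nthD_mem d acc k with h | h
        · rw [h]; exact hd
        · exact hacc _ h
      rcases nthG_mem gs j with h | h
      · rw [h]
        refine ⟨y, hy, ?_⟩
        have h1 := step_rep (p := (oneN, oneN)) (q := (1, 1)) ⟨rep_one, rep_one⟩ hyr
        simpa using h1
      · obtain ⟨q, hq, hS⟩ := hgs _ h
        exact ⟨_, hS y hy, step_rep hq hyr⟩
    · exact hacc t ht

theorem closedB_spec {gs : List (ℕ × ℕ)} {T : List ℕ} (h : closedB gs T = true) {p : ℕ × ℕ} (hp : p ∈ gs)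
    {q : GL75 × GL75} (hq : RepP p q) {y : GL75} (hy : y ∈ TS T) : q.1 * y * q.2 ∈ TS T := by
  obtain ⟨t, ht, hty⟩ := hy
  have h1 := allL_spec (allL_spec h p hp) t ht
  rw [force_eq, memB_iff] at h1
  exact ⟨_, h1, step_rep hq hty⟩

open scoped Pointwise in
/-- stability of a finite set under a group generated by a set -/
theorem stable_of_gens {P α : Type*} [Group P] [MulAction P α] {T : Set α} (hT : T.Finite) {S : Set P}
    (h : ∀ g ∈ S, ∀ t ∈ T, g • t ∈ T) {g : P} (hg : g ∈ Subgroup.closure S) {t : α} (ht : t ∈ T) : g • t ∈ T := by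
  have h1 : Subgroup.closure S ≤ MulAction.stabilizer P T := by
    rw [Subgroup.closure_le]
    intro g hg
    have h2 : g ∈ MulAction.stabilizer P T ↔ g • T ⊆ T := MulAction.mem_stabilizer_set_iff_smul_set_subset hT
    change g ∈ MulAction.stabilizer P T
    rw [h2]
    rintro _ ⟨t, ht, rfl⟩
    exact h g hg t ht
  have h2 := h1 hg
  rw [MulAction.mem_stabilizer_iff] at h2
  rw [← h2]
  exact ⟨t, ht, rfl⟩

/-! ### Groups -/

/-- check of a group given by generating words and a spanning tree -/
noncomputable def chk1 (ws : List (List ℕ)) (tree : List (ℕ × ℕ)) (f : ℕ → Bool) : Bool :=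
  mkC (fun _ => oneN) ws fun gs => buildC gs oneN tree [oneN] fun T =>
    bif nodupB T then bif closedB gs T then allL f T else false else false

theorem group_list {ws : List (List ℕ)} {tree : List (ℕ × ℕ)} {f : ℕ → Bool} (h : chk1 ws tree f = true) :
    Nat.card (subOf gen ws) = tree.length + 1 ∧ ∀ y ∈ subOf gen ws, ∃ X, Rep X y ∧ f X = true := by
  rw [chk1, mkC_eq, buildC_eq] at h
  set gs := ws.map fun w => (evalW w, oneN) with hgsdef
  set T := build gs oneN tree [oneN] with hT
  have hnd : nodupB T = true := by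
    cases hb : nodupB T with
    | true => rfl
    | false => rw [hb] at h; simp at h
  rw [hnd, cond_true] at h
  have hcl : closedB gs T = true := by
    cases hb : closedB gs T with
    | true => rfl
    | false => rw [hb] at h; simp at h
  rw [hcl, cond_true] at h
  have hf := allL_spec h
  have hgs : ∀ p ∈ gs, ∃ w ∈ ws, p = (evalW w, oneN) := by
    intro p hp
    obtain ⟨w, hw, rfl⟩ := List.mem_map.mp hp
    exact ⟨w, hw, rfl⟩
  have hin : ∀ t ∈ T, ∃ y ∈ (subOf gen ws : Set GL75), Rep t y := by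
    apply build_in
    · intro p hp
      obtain ⟨w, hw, rfl⟩ := hgs p hp
      refine ⟨(ev gen w, 1), ⟨rep_evalW w, rep_one⟩, ?_⟩
      intro y hy
      simp only [mul_one]
      exact (subOf gen ws).mul_mem (ev_mem_subOf gen hw) hy
    · exact ⟨1, (subOf gen ws).one_mem, rep_one⟩
    · intro t ht
      rw [List.mem_singleton.mp ht]
      exact ⟨1, (subOf gen ws).one_mem, rep_one⟩
  obtain ⟨hfin, hcard⟩ := card_TS (T := T) (fun t ht => by obtain ⟨y, _, hy⟩ := hin t ht; exact ⟨y, hy⟩)
    (nodupB_spec hnd)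
  have h1T : (1 : GL75) ∈ TS T := ⟨oneN, build_sub _ _ _ _ _ (List.mem_singleton.mpr rfl), rep_one⟩
  have hle : ∀ y ∈ subOf gen ws, y ∈ TS T := by
    intro y hy
    have h2 := stable_of_gens (α := GL75) hfin (S := {g | ∃ w ∈ ws, ev gen w = g}) (by
      rintro _ ⟨w, hw, rfl⟩ t ht
      have h3 := closedB_spec hcl (List.mem_map.mpr ⟨w, hw, rfl⟩) (q := (ev gen w, 1)) ⟨rep_evalW w, rep_one⟩ ht
      simpa using h3) hy h1T
    simpa using h2
  have hge : ∀ y ∈ TS T, y ∈ subOf gen ws := by
    rintro y ⟨t, ht, hty⟩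
    obtain ⟨y', hy', hty'⟩ := hin t ht
    rwa [hty.inj hty']
  constructor
  · have h4 : TS T = (subOf gen ws : Set GL75) := Set.ext fun y => ⟨hge y, hle y⟩
    rw [h4] at hcard
    rw [show Nat.card (subOf gen ws) = T.length from hcard, hT, build_length]
    rfl
  · intro y hy
    obtain ⟨t, ht, hty⟩ := hle y hy
    exact ⟨t, hty, hf t ht⟩

/-! ### Classes -/

/-- check of a class -/
noncomputable def chk2 (ws : List (List ℕ)) (s : List ℕ) (tree : List (ℕ × ℕ)) : Bool :=
  mkC (fun w => evalW (invW w)) ws fun gs => force (evalW s) fun s => buildC gs s tree [s] fun T =>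
    bif nodupB T then closedB gs T else false

theorem rep_inv (w : List ℕ) : Rep (evalW (invW w)) (ev gen w)⁻¹ := by
  rw [← ev_invW]
  exact rep_evalW _

theorem class_list {ws : List (List ℕ)} {s : List ℕ} {tree : List (ℕ × ℕ)} (h : chk2 ws s tree = true) :
    Nat.card {y : GL75 // ∃ k ∈ subOf gen ws, k * ev gen s * k⁻¹ = y} = tree.length + 1 := by
  rw [chk2, mkC_eq, force_eq, buildC_eq] at h
  set gs := ws.map fun w => (evalW w, evalW (invW w)) with hgsdef
  set T := build gs (evalW s) tree [evalW s] with hT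
  have hnd : nodupB T = true := by
    cases hb : nodupB T with
    | true => rfl
    | false => rw [hb] at h; simp at h
  rw [hnd, cond_true] at h
  set K := subOf gen ws with hK
  set S : Set GL75 := {y | ∃ k ∈ K, k * ev gen s * k⁻¹ = y} with hS
  have hsS : ev gen s ∈ S := ⟨1, K.one_mem, by group⟩
  have hin : ∀ t ∈ T, ∃ y ∈ S, Rep t y := by
    apply build_in
    · intro p hp
      obtain ⟨w, hw, rfl⟩ := List.mem_map.mp hp
      refine ⟨(ev gen w, (ev gen w)⁻¹), ⟨rep_evalW w, rep_inv w⟩, ?_⟩
      rintro _ ⟨k, hk, rfl⟩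
      exact ⟨ev gen w * k, K.mul_mem (ev_mem_subOf gen hw) hk, by group⟩
    · exact ⟨_, hsS, rep_evalW s⟩
    · intro t ht
      rw [List.mem_singleton.mp ht]
      exact ⟨_, hsS, rep_evalW s⟩
  obtain ⟨hfin, hcard⟩ := card_TS (T := T) (fun t ht => by obtain ⟨y, _, hy⟩ := hin t ht; exact ⟨y, hy⟩)
    (nodupB_spec hnd)
  have hsT : ev gen s ∈ TS T := ⟨evalW s, build_sub _ _ _ _ _ (List.mem_singleton.mpr rfl), rep_evalW s⟩
  have hle : ∀ y ∈ S, y ∈ TS T := by
    rintro _ ⟨k, hk, rfl⟩
    have h2 := stable_of_gens (P := ConjAct GL75) (α := GL75) hfin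
      (S := {g | ∃ w ∈ ws, ConjAct.toConjAct (ev gen w) = g}) (by
      rintro _ ⟨w, hw, rfl⟩ t ht
      have h3 := closedB_spec h (List.mem_map.mpr ⟨w, hw, rfl⟩) (q := (ev gen w, (ev gen w)⁻¹))
        ⟨rep_evalW w, rep_inv w⟩ ht
      rwa [ConjAct.smul_def, ConjAct.ofConjAct_toConjAct]) (g := ConjAct.toConjAct k) (by
      have h4 : (subOf gen ws).map (ConjAct.toConjAct (G := GL75)).toMonoidHom =
          Subgroup.closure {g | ∃ w ∈ ws, ConjAct.toConjAct (ev gen w) = g} := by
        rw [subOf, MonoidHom.map_closure]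
        congr 1
        ext g
        constructor
        · rintro ⟨_, ⟨w, hw, rfl⟩, rfl⟩
          exact ⟨w, hw, rfl⟩
        · rintro ⟨w, hw, rfl⟩
          exact ⟨_, ⟨w, hw, rfl⟩, rfl⟩
      rw [← h4]
      exact ⟨k, hk, rfl⟩) hsT
    rwa [ConjAct.smul_def, ConjAct.ofConjAct_toConjAct] at h2
  have hge : ∀ y ∈ TS T, y ∈ S := by
    rintro y ⟨t, ht, hty⟩
    obtain ⟨y', hy', hty'⟩ := hin t ht
    rwa [hty.inj hty']
  have h4 : TS T = S := Set.ext fun y => ⟨hge y, hle y⟩
  rw [h4] at hcard
  rw [show Nat.card {y : GL75 // ∃ k ∈ K, k * ev gen s * k⁻¹ = y} = T.length from hcard, hT, build_length]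
  rfl

/-- orbit-stabiliser for classes -/
theorem card_class_mul {P : Type*} [Group P] [Finite P] (K : Subgroup P) (s : P) :
    Nat.card {y : P // ∃ k ∈ K, k * s * k⁻¹ = y} * Nat.card (Subgroup.centralizer ({s} : Set P) ⊓ K : Subgroup P) =
      Nat.card K := by
  classical
  choose f hf hf' using fun y : {y : P // ∃ k ∈ K, k * s * k⁻¹ = y} => y.2
  rw [← Nat.card_prod]
  apply Nat.card_congr
  refine Equiv.ofBijective (fun p => (⟨f p.1 * p.2, K.mul_mem (hf p.1) (Subgroup.mem_inf.mp p.2.2).2⟩ : K)) ⟨?_, ?_⟩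
  · rintro ⟨y, d⟩ ⟨y', d'⟩ h
    have h1 : f y * (d : P) = f y' * (d' : P) := congrArg Subtype.val h
    have e : ∀ (z : {y : P // ∃ k ∈ K, k * s * k⁻¹ = y})
        (d : (Subgroup.centralizer ({s} : Set P) ⊓ K : Subgroup P)),
        (f z * (d : P)) * s * (f z * (d : P))⁻¹ = z.1 := by
      intro z d
      have h2 := Subgroup.mem_centralizer_singleton_iff.mp (Subgroup.mem_inf.mp d.2).1
      calc (f z * (d : P)) * s * (f z * (d : P))⁻¹ = f z * ((d : P) * s) * (d : P)⁻¹ * (f z)⁻¹ := by group
        _ = f z * s * (f z)⁻¹ := by rw [h2]; group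
        _ = z.1 := hf' z
    have hy : y = y' := by
      apply Subtype.ext
      rw [← e y d, ← e y' d', h1]
    subst hy
    have hd : d = d' := Subtype.ext (mul_left_cancel h1)
    rw [hd]
  · rintro ⟨k, hk⟩
    have hy : ∃ k' ∈ K, k' * s * k'⁻¹ = k * s * k⁻¹ := ⟨k, hk, rfl⟩
    have h1 := hf' ⟨_, hy⟩
    have h2 := hf ⟨_, hy⟩
    have hd : (f ⟨_, hy⟩)⁻¹ * k ∈ (Subgroup.centralizer ({s} : Set P) ⊓ K : Subgroup P) := by
      refine Subgroup.mem_inf.mpr ⟨?_, K.mul_mem (K.inv_mem h2) hk⟩
      rw [Subgroup.mem_centralizer_singleton_iff]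
      calc (f ⟨_, hy⟩)⁻¹ * k * s = (f ⟨_, hy⟩)⁻¹ * (k * s * k⁻¹) * k := by group
        _ = (f ⟨_, hy⟩)⁻¹ * (f ⟨_, hy⟩ * s * (f ⟨_, hy⟩)⁻¹) * k := by rw [h1]
        _ = s * ((f ⟨_, hy⟩)⁻¹ * k) := by group
    exact ⟨(⟨_, hy⟩, ⟨_, hd⟩), Subtype.ext (mul_inv_cancel_left _ _)⟩

end Cfsg.Agent.Ly.McL.Lists
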