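import Cfsg.Agent.Ly.McL.Checks

/-!
# The classes of `s_i` in the two-point stabilisers `H_i`
-/

set_option autoImplicit false

namespace Cfsg.Agent.Ly.McL.Sub

open Cfsg.Agent.Lib.PackMat Cfsg.Agent.Ly.Mat7 Cfsg.Agent.Ly.CoverCore Cfsg.Agent.Ly.Cover Cfsg.Agent.Ly.CoverData
open Cfsg.Agent.Ly.McL.Lists Cfsg.Agent.Ly.McL.Data Cfsg.Agent.Ly.Walk Cfsg.Agent.Ly.McL.Checks

theorem finite_GL75 : Finite GL75 := by
  have h1 : Finite (Matrix (Fin 7) (Fin 7) (ZMod 5)) := by
    unfold Matrix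
    infer_instance
  exact Finite.of_injective (fun u : GL75 => (u : Matrix (Fin 7) (Fin 7) (ZMod 5))) (fun a b h => Units.ext h)

theorem toM_inj_of_rep {X Y : ℕ} {g h : GL75} (hX : Rep X g) (hY : Rep Y h) (e : X = Y) : g = h := by
  subst e; exact hX.inj hY

theorem memB_rep {X : ℕ} {y : GL75} (hX : Rep X y) {w : List ℕ} {l : List ℕ}
    (h : memB X (evalW w :: l) = true) : y = ev gen w ∨ memB X l = true := by
  rw [memB] at h
  cases hb : Nat.beq X (evalW w) with
  | true => exact Or.inl (toM_inj_of_rep hX (rep_evalW w) (Nat.eq_of_beq_eq_true hb))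
  | false => rw [hb, cond_false] at h; exact Or.inr h

theorem memB_rep' {X : ℕ} {y : GL75} (hX : Rep X y) {a : ℕ} {g : GL75} (ha : Rep a g) {l : List ℕ}
    (h : memB X (a :: l) = true) : y = g ∨ memB X l = true := by
  rw [memB] at h
  cases hb : Nat.beq X a with
  | true => exact Or.inl (toM_inj_of_rep hX ha (Nat.eq_of_beq_eq_true hb))
  | false => rw [hb, cond_false] at h; exact Or.inr h

theorem memB_nil {X : ℕ} (h : memB X [] = true) : False := by simp [memB] at h

/-! ### Traces -/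

theorem trN_spec (X : ℕ) : Matrix.trace (toM X) = ((trN X : ℕ) : ZMod 5) := by
  have h1 : trN X = (∑ i ∈ Finset.range 7, dg 16 X (8 * i)) % 5 := by
    have h2 : ∀ k i, k = 16 * (8 * i) → (X >>> k) &&& 65535 = dg 16 X (8 * i) := by
      intro k i hk
      rw [hk, show (65535 : ℕ) = 2 ^ 16 - 1 by norm_num, Nat.and_two_pow_sub_one_eq_mod, dg_def,
        Nat.shiftRight_eq_div_pow]
    have h0 : X &&& 65535 = dg 16 X (8 * 0) := by
      have := h2 0 0 rfl
      simpa using this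
    rw [trN]
    change ((X &&& 65535) + ((X >>> 128 &&& 65535) + ((X >>> 256 &&& 65535) + ((X >>> 384 &&& 65535) +
      ((X >>> 512 &&& 65535) + ((X >>> 640 &&& 65535) + (X >>> 768 &&& 65535))))))) % 5 = _
    rw [h0, h2 128 1 rfl, h2 256 2 rfl, h2 384 3 rfl, h2 512 4 rfl, h2 640 5 rfl, h2 768 6 rfl]
    simp only [Finset.sum_range_succ, Finset.sum_range_zero]
    congr 1
    ring
  rw [h1, ZMod.natCast_mod, Finset.sum_range, Nat.cast_sum, Matrix.trace]
  apply Finset.sum_congr rfl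
  intro i _
  rw [Matrix.diag_apply, toM]
  congr 2
  ring

theorem trace_conj (k s : GL75) :
    Matrix.trace ((k * s * k⁻¹ : GL75) : Matrix (Fin 7) (Fin 7) (ZMod 5)) =
      Matrix.trace (s : Matrix (Fin 7) (Fin 7) (ZMod 5)) := by
  rw [Units.val_mul, Units.val_mul]
  exact Matrix.trace_units_conj k _

/-- trace of a word -/
theorem trace_word {w : List ℕ} {n : ℕ} (h : Nat.beq (trN (evalW w)) n = true) :
    Matrix.trace ((ev gen w : GL75) : Matrix (Fin 7) (Fin 7) (ZMod 5)) = (n : ZMod 5) := by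
  rw [(rep_evalW w).2, trN_spec, Nat.eq_of_beq_eq_true h]

theorem trN_lt (X : ℕ) : trN X < 5 := Nat.mod_lt _ (by norm_num)

theorem trN_eq_three {X : ℕ} {y : GL75} (hX : Rep X y)
    (h : Matrix.trace (y : Matrix (Fin 7) (Fin 7) (ZMod 5)) = 3) : Nat.beq (trN X) 3 = true := by
  rw [hX.2, trN_spec] at h
  have h2 : ((trN X : ℕ) : ZMod 5) = ((3 : ℕ) : ZMod 5) := by rw [h]; rfl
  rw [ZMod.natCast_eq_natCast_iff'] at h2
  have h3 := trN_lt X
  have : trN X = 3 := by omega
  rw [this]; rfl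

theorem tr_x : Nat.beq (trN (evalW xw)) 3 = true := by decide +kernel

theorem x_cube : (ev gen xw) ^ 3 = 1 := by
  have h := word_eq x3
  rw [ev_append, ev_append, ev_nil] at h
  rw [pow_succ, pow_two]; exact h

theorem x_code : Nat.beq (evalW xw) oneN = false := by decide +kernel

theorem x_ne_one : ev gen xw ≠ 1 := by
  intro h
  have h1 : Rep oneN (ev gen xw) := by rw [h]; exact rep_one
  have h2 : evalW xw = oneN := (rep_evalW xw).code h1
  have h3 := x_code
  rw [h2, Nat.beq_refl] at h3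
  exact absurd h3 (by simp)

theorem order_x : orderOf (ev gen xw) = 3 := by
  have : Fact (Nat.Prime 3) := ⟨by norm_num⟩
  exact orderOf_eq_prime x_cube x_ne_one

/-! ### Words in the generators of `H_i` -/

theorem nth_mem (T : List (List ℕ)) : ∀ n, nth T n = [] ∨ nth T n ∈ T := by
  induction T with
  | nil => intro n; left; rfl
  | cons a l ih =>
    intro n
    cases n with
    | zero => right; exact List.mem_cons_self
    | succ n =>
      rcases ih n with h | h
      · left; exact h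
      · right; exact List.mem_cons_of_mem _ h

theorem ex_mem_sub {G : Type*} [Group G] (X : Fin 4 → G) (S : Subgroup G) (T : List (List ℕ))
    (hT : ∀ w ∈ T, ev X w ∈ S) (l : List ℕ) : ev X (ex T l) ∈ S := by
  induction l with
  | nil => rw [ex, ev_nil]; exact S.one_mem
  | cons n l ih =>
    rw [ex, ev_append]
    refine S.mul_mem ?_ ih
    rcases nth_mem T n with h | h
    · rw [h, ev_nil]; exact S.one_mem
    · exact hT _ h

theorem ex_mem (i : ℕ) (l : List ℕ) : ev gen (ex (HgI i) l) ∈ Hsub i := by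
  apply ex_mem_sub
  intro w hw
  rcases List.mem_append.mp hw with hw | hw
  · exact ev_mem_subOf gen hw
  · obtain ⟨v, hv, rfl⟩ := List.mem_map.mp hw
    rw [ev_invW]
    exact (Hsub i).inv_mem (ev_mem_subOf gen hv)

/-- Elements of order 3 and trace 3 in `H_i` form one class. -/
theorem class_gen (i n r : ℕ) (hc : Nat.card (Hsub i) = 3 ^ n * r) (hr : ¬ 3 ∣ r) {si ti : List ℕ}
    {pi : List (List ℕ)} {tree : List (ℕ × ℕ)} (hP : chkP i si pi tree = true) (hlen : tree.length + 1 = 3 ^ n)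
    (ht : eqW (ex (HgI i) ti ++ ex (HgI i) si) (invW (ex (HgI i) si) ++ ex (HgI i) ti) = true) :
    ∀ k ∈ Hsub i, k ^ 3 = 1 → Matrix.trace (k : Matrix (Fin 7) (Fin 7) (ZMod 5)) = 3 →
      ∃ m ∈ Hsub i, k = m * ev gen (ex (HgI i) si) * m⁻¹ := by
  have hfin := finite_GL75
  have hp : Fact (Nat.Prime 3) := ⟨by norm_num⟩
  intro k hk hk3 htr
  set s := ev gen (ex (HgI i) si) with hs
  set t := ev gen (ex (HgI i) ti) with htd
  have hts : t * s = s⁻¹ * t := by
    have h := word_eq ht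
    rwa [ev_append, ev_append, ev_invW] at h
  rw [chkP, force_eq, force_eq] at hP
  obtain ⟨hcard, hall⟩ := group_list hP
  set P := subOf gen (pi.map (ex (HgI i))) with hPdef
  have hPle : P ≤ Hsub i := by
    rw [hPdef, subOf, Subgroup.closure_le]
    rintro _ ⟨w, hw, rfl⟩
    obtain ⟨l, _, rfl⟩ := List.mem_map.mp hw
    exact ex_mem i l
  have hPc : Nat.card (P.subgroupOf (Hsub i)) = 3 ^ n := by
    rw [← hlen, ← hcard]
    exact Nat.card_congr (Subgroup.subgroupOfEquivOfLe hPle).toEquiv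
  have hQ : IsPGroup 3 (Subgroup.zpowers (⟨k, hk⟩ : Hsub i)) := by
    rw [IsPGroup.iff_card]
    have h1 : orderOf (⟨k, hk⟩ : Hsub i) ∣ 3 := by
      rw [orderOf_dvd_iff_pow_eq_one]
      exact Subtype.ext hk3
    rcases (Nat.dvd_prime Nat.prime_three).mp h1 with h | h
    · exact ⟨0, by rw [Nat.card_zpowers, h, pow_zero]⟩
    · exact ⟨1, by rw [Nat.card_zpowers, h, pow_one]⟩
  obtain ⟨g, hg⟩ := Normal.exists_conj_le (p := 3) (P.subgroupOf (Hsub i)) n r hPc hc hr _ hQ
  have h1 := hg _ (Subgroup.mem_zpowers _)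
  have h2 : (g : GL75) * k * (g : GL75)⁻¹ ∈ P := h1
  obtain ⟨X, hX, hfX⟩ := hall _ h2
  have h3 : Nat.beq (trN X) 3 = true := trN_eq_three hX (by rw [trace_conj]; exact htr)
  rw [h3, cond_true] at hfX
  have h4 : (g : GL75) * k * (g : GL75)⁻¹ = s ∨ (g : GL75) * k * (g : GL75)⁻¹ = s⁻¹ := by
    rcases memB_rep hX hfX with h | h
    · exact Or.inl h
    · rcases memB_rep hX h with h | h
      · right; rw [h, ev_invW]
      · exact (memB_nil h).elim
  rcases h4 with h | h
  · refine ⟨(g : GL75)⁻¹, (Hsub i).inv_mem g.2, ?_⟩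
    rw [← h]; group
  · refine ⟨(g : GL75)⁻¹ * t, (Hsub i).mul_mem ((Hsub i).inv_mem g.2) (ex_mem i ti), ?_⟩
    calc k = (g : GL75)⁻¹ * ((g : GL75) * k * (g : GL75)⁻¹) * g := by group
      _ = (g : GL75)⁻¹ * (t * s * t⁻¹) * g := by rw [h, hts]; group
      _ = (g : GL75)⁻¹ * t * s * ((g : GL75)⁻¹ * t)⁻¹ := by group

/-- The centraliser of `s_i` in `H_i`. -/
theorem cent_gen (i n c : ℕ) {si : List ℕ} {tree : List (ℕ × ℕ)} (hC : chk2 (Hgens i) (ex (HgI i) si) tree = true)
    (hlen : tree.length + 1 = n) (hc : Nat.card (Hsub i) = n * c) (hn : 0 < n) :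
    Nat.card (Subgroup.centralizer ({ev gen (ex (HgI i) si)} : Set GL75) ⊓ Hsub i : Subgroup GL75) = c := by
  have hfin := finite_GL75
  have h1 := class_list hC
  have h2 := card_class_mul (Hsub i) (ev gen (ex (HgI i) si))
  rw [show Nat.card {y : GL75 // ∃ k ∈ Hsub i, k * ev gen (ex (HgI i) si) * k⁻¹ = y} = tree.length + 1 from h1,
    hlen, hc] at h2
  exact Nat.eq_of_mul_eq_mul_left hn h2

/-- the elements `s_i` -/
def sw : ℕ → List ℕ
  | 3 => v3 ++ xw ++ invW v3
  | _ => xw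

theorem s1 : ev gen (ex (HgI 1) si1) = ev gen xw := word_eq chk_s1
theorem s2 : ev gen (ex (HgI 2) si2) = ev gen xw := word_eq chk_s2
theorem s3 : ev gen (ex (HgI 3) si3) = ev gen (v3 ++ xw ++ invW v3) := word_eq chk_s3
theorem s4 : ev gen (ex (HgI 4) si4) = ev gen xw := word_eq chk_s4

theorem class_all {i : ℕ} (hi : i < 5) (hi0 : i ≠ 0)
    (hc : Nat.card (Hsub i) = [5859000000, 300000, 6048, 2880, 1008].getD i 0) :
    (∀ k ∈ Hsub i, k ^ 3 = 1 → Matrix.trace (k : Matrix (Fin 7) (Fin 7) (ZMod 5)) = 3 →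
      ∃ m ∈ Hsub i, k = m * ev gen (sw i) * m⁻¹) ∧
    Nat.card (Subgroup.centralizer ({ev gen (sw i)} : Set GL75) ⊓ Hsub i : Subgroup GL75) =
      [378000, 1500, 108, 144, 504].getD i 0 := by
  match i, hi, hi0 with
  | 1, _, _ =>
    change Nat.card (Hsub 1) = 300000 at hc
    have h1 := class_gen 1 1 100000 (by rw [hc]; norm_num) (by norm_num) chk_pi1 (by decide) chk_ti1
    have h2 := cent_gen 1 200 1500 chk_c1 (by decide +kernel) (by rw [hc]) (by norm_num)
    rw [s1] at h1 h2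
    exact ⟨h1, h2⟩
  | 2, _, _ =>
    change Nat.card (Hsub 2) = 6048 at hc
    have h1 := class_gen 2 3 224 (by rw [hc]; norm_num) (by norm_num) chk_pi2 (by decide) chk_ti2
    have h2 := cent_gen 2 56 108 chk_c2 (by decide +kernel) (by rw [hc]) (by norm_num)
    rw [s2] at h1 h2
    exact ⟨h1, h2⟩
  | 3, _, _ =>
    change Nat.card (Hsub 3) = 2880 at hc
    have h1 := class_gen 3 2 320 (by rw [hc]; norm_num) (by norm_num) chk_pi3 (by decide) chk_ti3
    have h2 := cent_gen 3 20 144 chk_c3 (by decide) (by rw [hc]) (by norm_num)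
    rw [s3] at h1 h2
    exact ⟨h1, h2⟩
  | 4, _, _ =>
    change Nat.card (Hsub 4) = 1008 at hc
    have h1 := class_gen 4 2 112 (by rw [hc]; norm_num) (by norm_num) chk_pi4 (by decide) chk_ti4
    have h2 := cent_gen 4 2 504 chk_c4 (by decide) (by rw [hc]) (by norm_num)
    rw [s4] at h1 h2
    exact ⟨h1, h2⟩

end Cfsg.Agent.Ly.McL.Sub
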